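import Mathlib.AlgebraicGeometry.Morphisms.Affine
import Mathlib.AlgebraicGeometry.ZariskisMainTheorem
import Mathlib.AlgebraicGeometry.Noetherian
import Mathlib.RingTheory.Ideal.GoingUp
import Mathlib.RingTheory.KrullDimension.Basic

/-!
# Opens of one-dimensional affine schemes are affine
-/

set_option autoImplicit false
set_option backward.isDefEq.respectTransparency false
set_option backward.isDefEq.respectTransparency.types false
set_option linter.style.haveILetI false

universe u

open CategoryTheory CategoryTheory.Limits AlgebraicGeometry TopologicalSpace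

namespace Groth.Agent.NeronIsog

theorem krullDimLE_one_of_integral (R B : Type u) [CommRing R] [CommRing B] [Algebra R B]
    [Algebra.IsIntegral R B] [Ring.KrullDimLE 1 R] : Ring.KrullDimLE 1 B := by
  rw [Ring.krullDimLE_one_iff]
  intro J hJ
  haveI := hJ
  rcases Ring.krullDimLE_one_iff.1 (inferInstance : Ring.KrullDimLE 1 R) (J.comap (algebraMap R B))
    inferInstance with h | h
  · refine Or.inl ⟨⟨hJ, bot_le⟩, fun I hI hIJ => ?_⟩
    by_contra hne
    haveI := hI.1
    have hlt : I < J := lt_of_le_of_ne hIJ fun e => hne (e ▸ le_rfl)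
    exact (Ideal.IsIntegral.comap_lt_comap (R := R) hlt).not_ge
      (h.2 ⟨inferInstance, bot_le⟩ (Ideal.comap_mono hIJ))
  · exact Or.inr (Ideal.isMaximal_of_isIntegral_of_isMaximal_comap J h)

variable {B : CommRingCat.{u}}

/-- The point with given prime is closed when the prime is maximal. -/
theorem isClosed_of_isMaximal (x : Spec B) (h : x.asIdeal.IsMaximal) : IsClosed ({x} : Set (Spec B)) :=
  (PrimeSpectrum.isClosed_singleton_iff_isMaximal x).2 h

theorem finite_of_isMaximal (U : (Spec B).Opens) [NoetherianSpace U.toScheme] (C : Set U.toScheme)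
    (hC : IsClosed C) (h : ∀ x ∈ C, (U.ι x).asIdeal.IsMaximal) : C.Finite := by
  haveI : NoetherianSpace C := NoetherianSpace.set C
  haveI : QuasiSober C := hC.isClosedEmbedding_subtypeVal.quasiSober
  refine Set.finite_coe_iff.1 ?_
  refine Set.finite_univ_iff.1 (((NoetherianSpace.finite_irreducibleComponents (α := C)).biUnion
    fun Z hZ => ?_).subset fun x _ => Set.mem_biUnion (t := fun Z : Set C => Z)
      (irreducibleComponent_mem_irreducibleComponents x) mem_irreducibleComponent)
  have hgen := hZ.1.isGenericPoint_genericPoint_closure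
  have hclosed : IsClosed ({hZ.1.genericPoint} : Set C) := by
    have hc : Continuous fun y : C => U.ι y.1 := U.ι.continuous.comp continuous_subtype_val
    have h1 := (isClosed_of_isMaximal _ (h _ hZ.1.genericPoint.2)).preimage hc
    convert h1 using 1
    ext y
    simp only [Set.mem_singleton_iff, Set.mem_preimage]
    exact ⟨fun e => e ▸ rfl, fun e => Subtype.ext (U.ι.isOpenEmbedding.injective e)⟩
  refine (Set.finite_singleton hZ.1.genericPoint).subset fun y hy => ?_
  rw [← hclosed.closure_eq]
  exact hgen.def ▸ subset_closure hy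

theorem finite_minimal (U : (Spec B).Opens) [NoetherianSpace U.toScheme] :
    {x : U.toScheme | (U.ι x).asIdeal ∈ minimalPrimes B}.Finite := by
  refine Set.Finite.of_finite_image ((NoetherianSpace.finite_irreducibleComponents
    (α := U.toScheme)).subset ?_) (f := fun x => closure ({x} : Set U.toScheme)) ?_
  · rintro _ ⟨x, hx, rfl⟩
    refine ⟨isIrreducible_singleton.closure, fun C hC hle => ?_⟩
    have hη : hC.genericPoint ⤳ x :=
      hC.isGenericPoint_genericPoint_closure.specializes (subset_closure (hle (subset_closure rfl)))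
    have hle' : (U.ι hC.genericPoint).asIdeal ≤ (U.ι x).asIdeal :=
      (PrimeSpectrum.le_iff_specializes _ _).2 (hη.map U.ι.continuous)
    have heq : hC.genericPoint = x := U.ι.isOpenEmbedding.injective
      (PrimeSpectrum.ext (le_antisymm hle' (hx.2 ⟨(U.ι hC.genericPoint).2, bot_le⟩ hle')))
    show C ⊆ closure {x}
    rw [← heq, hC.isGenericPoint_genericPoint_closure.def]
    exact subset_closure
  · intro a _ b _ hab
    exact (inseparable_iff_closure_eq.2 hab).eq

theorem exists_cover [Ring.KrullDimLE 1 B] (U : (Spec B).Opens) [NoetherianSpace U.toScheme] :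
    ∃ g : B, (∀ y : Spec B, y ∈ U ∨ y ∈ PrimeSpectrum.basicOpen g) ∧
      ∃ f : B, ∀ y : Spec B, (y ∈ U ∧ y ∈ PrimeSpectrum.basicOpen g) ↔ y ∈ PrimeSpectrum.basicOpen (g * f) := by
  classical
  let I : Ideal B := PrimeSpectrum.vanishingIdeal ((U : Set (Spec B))ᶜ)
  have hI : PrimeSpectrum.zeroLocus (I : Set B) = ((U : Set (Spec B))ᶜ) := by
    rw [PrimeSpectrum.zeroLocus_vanishingIdeal_eq_closure, U.isOpen.isClosed_compl.closure_eq]
  have hmem : ∀ y : Spec B, y ∈ U → ¬ I ≤ y.asIdeal := fun y hy h => by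
    have : y ∈ PrimeSpectrum.zeroLocus (I : Set B) := h
    rw [hI] at this
    exact this hy
  let M := (finite_minimal U).toFinset
  obtain ⟨f, hfI, hf⟩ : ∃ f ∈ I, ∀ x ∈ M, f ∉ (U.ι x).asIdeal := by
    by_contra hc
    push Not at hc
    rcases M.eq_empty_or_nonempty with h | ⟨a, -⟩
    · obtain ⟨x, hx, -⟩ := hc 0 I.zero_mem
      simp [h] at hx
    · obtain ⟨x, hx, hle⟩ := (Ideal.subset_union_prime (s := M) (f := fun x => (U.ι x).asIdeal)
        a a fun x _ _ _ => (U.ι x).2).1 fun b hb => by
          obtain ⟨x, hx, hbx⟩ := hc b hb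
          exact Set.mem_iUnion₂.2 ⟨x, hx, hbx⟩
      exact hmem _ x.2 hle
  let C : Set U.toScheme := U.ι ⁻¹' PrimeSpectrum.zeroLocus {f}
  have hCmax : ∀ x ∈ C, (U.ι x).asIdeal.IsMaximal := fun x hx => by
    rcases Ring.krullDimLE_one_iff.1 (inferInstance : Ring.KrullDimLE 1 B) _ (U.ι x).2 with h | h
    · exact absurd (hx rfl) (hf x ((finite_minimal U).mem_toFinset.2 h))
    · exact h
  let F := (finite_of_isMaximal U C ((PrimeSpectrum.isClosed_zeroLocus _).preimage U.ι.continuous) hCmax).toFinset
  have htop : I ⊔ ∏ x ∈ F, (U.ι x).asIdeal = ⊤ := Ideal.sup_prod_eq_top fun x hx => by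
    by_contra hne
    have hm := hCmax x ((Set.Finite.mem_toFinset _).1 hx)
    exact hmem _ x.2 (le_sup_left.trans (hm.eq_of_le hne le_sup_right).ge)
  obtain ⟨a, ha, g, hg, hag⟩ := Submodule.mem_sup.1 (htop ▸ Submodule.mem_top : (1 : B) ∈ I ⊔ ∏ x ∈ F, (U.ι x).asIdeal)
  refine ⟨g, fun y => ?_, f, fun y => ?_⟩
  · by_cases hy : y ∈ U
    · exact Or.inl hy
    · refine Or.inr fun hgy => y.2.ne_top (y.asIdeal.eq_top_iff_one.2 ?_)
      have hay : a ∈ y.asIdeal := by
        have : y ∈ PrimeSpectrum.zeroLocus (I : Set B) := by rw [hI]; exact hy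
        exact this ha
      rw [← hag]
      exact add_mem hay hgy
  · show (y ∈ U ∧ g ∉ y.asIdeal) ↔ g * f ∉ y.asIdeal
    rw [y.2.mul_mem_iff_mem_or_mem, not_or]
    refine ⟨fun ⟨hy, hgy⟩ => ⟨hgy, fun hfy => ?_⟩, fun ⟨hgy, hfy⟩ => ⟨?_, hgy⟩⟩
    · obtain ⟨x, rfl⟩ : ∃ x : U.toScheme, U.ι x = y := ⟨⟨y, hy⟩, rfl⟩
      have hxF : x ∈ F := (Set.Finite.mem_toFinset _).2
        (show U.ι x ∈ PrimeSpectrum.zeroLocus {f} from Set.singleton_subset_iff.2 hfy)
      exact hgy ((Ideal.prod_le_inf.trans (Finset.inf_le hxF)) hg)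
    · by_contra hy
      have : y ∈ PrimeSpectrum.zeroLocus (I : Set B) := by rw [hI]; exact hy
      exact hfy (this hfI)

/-- A noetherian open subspace of a one-dimensional affine scheme is affine. -/
theorem isAffineOpen_of_dim_one [Ring.KrullDimLE 1 B] (U : (Spec B).Opens) [NoetherianSpace U.toScheme] :
    IsAffineOpen U := by
  obtain ⟨g, hg, f, hf⟩ := exists_cover U
  haveI : IsAffineHom U.ι := by
    refine isAffineHom_of_forall_exists_isAffineOpen _ fun y => ?_
    have key : ∀ V : (Spec B).Opens, IsAffineOpen (V ⊓ U) → IsAffineOpen (U.ι ⁻¹ᵁ V) := fun V hV => by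
      rw [← U.ι.isAffineOpen_iff_of_isOpenImmersion,
        Scheme.Hom.image_preimage_eq_opensRange_inf, Scheme.Opens.opensRange_ι, inf_comm]
      exact hV
    rcases hg y with hy | hy
    · obtain ⟨_, ⟨h, rfl⟩, hyh, hhU⟩ :=
        PrimeSpectrum.isTopologicalBasis_basic_opens.exists_subset_of_mem_open hy U.isOpen
      refine ⟨PrimeSpectrum.basicOpen h, hyh, IsAffineOpen.Spec_basicOpen h, key _ ?_⟩
      have e : (PrimeSpectrum.basicOpen h : (Spec B).Opens) ⊓ U = PrimeSpectrum.basicOpen h :=
        inf_eq_left.2 hhU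
      rw [e]
      exact IsAffineOpen.Spec_basicOpen h
    · refine ⟨PrimeSpectrum.basicOpen g, hy, IsAffineOpen.Spec_basicOpen g, key _ ?_⟩
      have e : (PrimeSpectrum.basicOpen g : (Spec B).Opens) ⊓ U = PrimeSpectrum.basicOpen (g * f) :=
        Opens.ext (Set.ext fun z => (and_comm.trans (hf z)))
      rw [e]
      exact IsAffineOpen.Spec_basicOpen _
  exact isAffine_of_isAffineHom U.ι

/-- A quasi-finite separated scheme over a one-dimensional noetherian affine base is affine. -/
theorem isAffineHom_of_lqf (R : CommRingCat.{u}) [IsNoetherianRing R] [Ring.KrullDimLE 1 R]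
    {X : Scheme.{u}} (p : X ⟶ Spec R) [LocallyQuasiFinite p] [IsSeparated p] [QuasiCompact p]
    [LocallyOfFiniteType p] : IsAffineHom p := by
  haveI : IsAffine p.normalization := isAffine_of_isAffineHom p.fromNormalization
  let B : CommRingCat.{u} := Γ(p.normalization, ⊤)
  let j : X ⟶ Spec B := p.toNormalization ≫ p.normalization.isoSpec.hom
  haveI : IsOpenImmersion j := inferInstanceAs (IsOpenImmersion (p.toNormalization ≫ _))
  let φ : R ⟶ B := Spec.preimage (p.normalization.isoSpec.inv ≫ p.fromNormalization)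
  letI : Algebra R B := φ.hom.toAlgebra
  haveI : IsIntegralHom (Spec.map φ) := by rw [Spec.map_preimage]; infer_instance
  haveI : Algebra.IsIntegral R B := ⟨IsIntegralHom.SpecMap_iff.1 ‹_›⟩
  haveI : Ring.KrullDimLE 1 B := krullDimLE_one_of_integral R B
  haveI : IsLocallyNoetherian X := LocallyOfFiniteType.isLocallyNoetherian p
  haveI : CompactSpace X := QuasiCompact.compactSpace_of_compactSpace p
  haveI : IsNoetherian X := { __ := ‹IsLocallyNoetherian X›, __ := ‹CompactSpace X› }
  haveI : NoetherianSpace j.opensRange.toScheme :=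
    noetherianSpace_iff_of_homeomorph (Scheme.homeoOfIso j.isoOpensRange) |>.1 inferInstance
  haveI : IsAffine j.opensRange.toScheme := isAffineOpen_of_dim_one j.opensRange
  haveI : IsAffine X := IsAffine.of_isIso j.isoOpensRange.hom
  infer_instance

end Groth.Agent.NeronIsog
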