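import Groth.Agent.NeronIsog.Main

/-!
# Flatness of an isogeny through the identity components of the special fibre
-/

set_option autoImplicit false
set_option linter.style.haveILetI false
set_option backward.isDefEq.respectTransparency false
set_option backward.isDefEq.respectTransparency.types false
set_option maxHeartbeats 1000000
set_option synthInstance.maxHeartbeats 400000

universe u

open CategoryTheory CategoryTheory.Limits MonoidalCategory CartesianMonoidalCategory MonObj GrpObj AlgebraicGeometry TopologicalSpace

attribute [local instance] CategoryTheory.Hom.monoid CategoryTheory.Hom.group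

noncomputable section

namespace Groth.Agent.NeronIsog

open Groth.Agent

/-- The dimension of a fibre along a preimmersed point. -/
theorem dim_pullback_point {S T : Scheme.{u}} (j : T ⟶ S) [IsPreimmersion j] (G : Over S) (s : S)
    (hj : Set.range j = {s}) :
    topologicalKrullDim ↥((Over.pullback j).obj G).left = topologicalKrullDim ↥(G.hom ⁻¹' {s}) := by
  haveI : IsPreimmersion (pullback.fst G.hom j) :=
    MorphismProperty.pullback_fst (P := @IsPreimmersion) _ _ inferInstance
  have hr : Set.range (pullback.fst G.hom j) = G.hom ⁻¹' {s} :=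
    (Scheme.Pullback.range_fst G.hom j).trans (congrArg _ hj)
  exact ((pullback.fst G.hom j).isEmbedding.toHomeomorph.trans (Homeomorph.setCongr hr)).isHomeomorph.topologicalKrullDim_eq _

variable {k : Type u} [Field k] {G H : Over (Spec (CommRingCat.of k))} [GrpObj G] [GrpObj H]
  [LocallyOfFiniteType G.hom] [LocallyOfFiniteType H.hom] (u : G ⟶ H) [IsMonHom u]

/-- A flat homomorphism maps the identity component onto the identity component. -/
theorem image_component_of_flat [Flat u.left] :
    u.left '' connectedComponent (η[G].left (IsLocalRing.closedPoint k)) =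
      connectedComponent (η[H].left (IsLocalRing.closedPoint k)) := by
  obtain ⟨G₀, iG, c, hc, hcc, hco, hcr, hci, hcl, hcq, -⟩ := NeronComp.IsogFib.exists_open_component G
  letI := iG
  haveI := hc; haveI := hco; haveI := hcl; haveI := hcq
  haveI : LocallyOfFiniteType (u.left ≫ H.hom) := by rw [Over.w u]; infer_instance
  haveI : LocallyOfFiniteType u.left := locallyOfFiniteType_of_comp u.left H.hom
  haveI : IsLocallyNoetherian H.left := LocallyOfFiniteType.isLocallyNoetherian H.hom
  haveI := Deform.Chev.quasiCompact_of_grp (c ≫ u)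
  haveI : Flat (c ≫ u).left := inferInstanceAs (Flat (c.left ≫ u.left))
  haveI : LocallyOfFiniteType (c ≫ u).left := inferInstanceAs (LocallyOfFiniteType (c.left ≫ u.left))
  haveI : UniversallyOpen (c ≫ u).left := inferInstance
  rw [← hcr, ← Set.range_comp]
  have he : (c ≫ u).left (η[G₀].left (IsLocalRing.closedPoint k)) = η[H].left (IsLocalRing.closedPoint k) :=
    congrArg (fun f : 𝟙_ _ ⟶ H => f.left (IsLocalRing.closedPoint k)) (IsMonHom.one_hom (c ≫ u))
  refine subset_antisymm ((isPreconnected_range (c ≫ u).left.continuous).subset_connectedComponent ⟨_, he⟩)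
    (IsClopen.connectedComponent_subset ⟨GrpSchLib.HomClosedRange.isClosed_range (c ≫ u),
      (c ≫ u).left.isOpenMap.isOpen_range⟩ ⟨_, he⟩)

/-- Surjectivity on identity components gives quasi-finiteness. -/
theorem lqf_of_image_component (hdim : topologicalKrullDim G.left = topologicalKrullDim H.left)
    (h : connectedComponent (η[H].left (IsLocalRing.closedPoint k)) ⊆
      u.left '' connectedComponent (η[G].left (IsLocalRing.closedPoint k))) :
    LocallyQuasiFinite u.left := by
  obtain ⟨m, hm, hme⟩ := GrpSchLib.exists_isMaxPt (η[H].left (IsLocalRing.closedPoint k))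
  obtain ⟨z, -, hz⟩ := h (isIrreducible_singleton.closure.isConnected.isPreconnected.subset_connectedComponent
    (specializes_iff_mem_closure.1 hme) (subset_closure rfl))
  refine lqf_of_maxPt u hdim (g := z) (fun d hd => ?_) (hz ▸ hm)
  refine VarDim.eq_of_specializes_of_deg_le G.hom hd ?_
  have h1 : ((VarDim.deg G.hom d : ℕ∞) : WithBot ℕ∞) ≤ topologicalKrullDim H.left := by
    rw [← hdim, VarDim.topologicalKrullDim_eq_iSup_deg G.hom]
    exact le_iSup (fun x => ((VarDim.deg G.hom x : ℕ∞) : WithBot ℕ∞)) d
  rw [GrpSchLib.topologicalKrullDim_eq_deg hm] at h1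
  have h2 : VarDim.deg G.hom d ≤ VarDim.deg H.hom m := by exact_mod_cast h1
  exact h2.trans (hz ▸ VarDim.deg_map_le u.left H.hom (Over.w u) z)

omit [GrpObj G] [GrpObj H] [IsMonHom u] in
/-- Quasi-finiteness at the points over a base-changed fibre. -/
theorem quasiFiniteAt_of_bc {S T : Scheme.{u}} {A B : Over S} (φ : A ⟶ B) [LocallyOfFiniteType φ.left]
    (j : T ⟶ S) [LocallyQuasiFinite ((Over.pullback j).map φ).left] (x : A.left)
    (hx : A.hom x ∈ Set.range j) : φ.left.QuasiFiniteAt x := by
  obtain ⟨z, rfl⟩ : x ∈ Set.range (pullback.fst A.hom j) := by rwa [Scheme.Pullback.range_fst]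
  haveI : LocallyOfFiniteType ((Over.pullback j).map φ).left :=
    MorphismProperty.of_isPullback (P := @LocallyOfFiniteType)
      (GrpSchLib.HomFibre.map_isPullback φ j) inferInstance
  exact (Set.ext_iff.mp (S9389.result φ.left _ _ _ (GrpSchLib.HomFibre.map_isPullback φ j)) z).1
    (((Over.pullback j).map φ).left.quasiFiniteAt z)

theorem flat_iff_image_component (R : Type u) [CommRing R] [IsDomain R] [IsDiscreteValuationRing R]
    (A B : Over (Spec (CommRingCat.of R))) [GrpObj A] [GrpObj B]
    [Smooth A.hom] [Smooth B.hom] [QuasiCompact A.hom] (φ : A ⟶ B) [IsMonHom φ]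
    (hφ : SGA7.IsIsogenyOver ((Neron.genericFibre R).map φ)) :
    Flat φ.left ↔
      ((Over.pullback (Spec.map (CommRingCat.ofHom (IsLocalRing.residue R)))).map φ).left ''
          connectedComponent ((η[Red.bc (Spec.map (CommRingCat.ofHom (IsLocalRing.residue R))) A]).left (IsLocalRing.closedPoint (IsLocalRing.ResidueField R))) =
        connectedComponent ((η[Red.bc (Spec.map (CommRingCat.ofHom (IsLocalRing.residue R))) B]).left (IsLocalRing.closedPoint (IsLocalRing.ResidueField R))) := by
  let S := Spec (CommRingCat.of R)
  let ρ : Spec (CommRingCat.of (IsLocalRing.ResidueField R)) ⟶ S :=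
    Spec.map (CommRingCat.ofHom (IsLocalRing.residue R))
  haveI : IsClosedImmersion ρ := IsClosedImmersion.spec_of_surjective _ IsLocalRing.residue_surjective
  have hρ : Set.range ρ = {IsLocalRing.closedPoint R} := by
    rw [Set.eq_singleton_iff_unique_mem]
    refine ⟨⟨IsLocalRing.closedPoint _, IsLocalRing.comap_closedPoint (IsLocalRing.residue R)⟩, ?_⟩
    rintro _ ⟨z, rfl⟩
    haveI : Subsingleton ↥(Spec (CommRingCat.of (IsLocalRing.ResidueField R))) :=
      inferInstanceAs (Subsingleton (PrimeSpectrum (IsLocalRing.ResidueField R)))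
    rw [show z = IsLocalRing.closedPoint _ from Subsingleton.elim _ _]
    exact IsLocalRing.comap_closedPoint (IsLocalRing.residue R)
  let F := Over.pullback ρ
  haveI hsA : Smooth (F.obj A).hom := inferInstanceAs (Smooth (pullback.snd A.hom ρ))
  haveI hsB : Smooth (F.obj B).hom := inferInstanceAs (Smooth (pullback.snd B.hom ρ))
  have hdim : topologicalKrullDim (F.obj A).left = topologicalKrullDim (F.obj B).left := by
    rw [dim_pullback_point ρ A _ hρ, dim_pullback_point ρ B _ hρ, ← dim_bc A, ← dim_bc B]
    exact dim_fibre_eq φ hφ _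
  haveI : LocallyOfFiniteType (φ.left ≫ B.hom) := by rw [Over.w φ]; infer_instance
  haveI : LocallyOfFiniteType φ.left := locallyOfFiniteType_of_comp φ.left B.hom
  refine ⟨fun h => ?_, fun h => (lqf_iff_flat φ hφ).1 ?_⟩
  · haveI : Flat (F.map φ).left :=
      MorphismProperty.of_isPullback (P := @Flat) (GrpSchLib.HomFibre.map_isPullback φ ρ) h
    exact image_component_of_flat (F.map φ)
  · haveI : LocallyQuasiFinite (F.map φ).left := lqf_of_image_component (F.map φ) hdim h.ge
    let j := Neron.genPt R
    haveI : LocallyQuasiFinite ((Over.pullback j).map φ).left := by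
      haveI : QuasiCompact ((Neron.genericFibre R).obj A).hom :=
        inferInstanceAs (QuasiCompact (pullback.snd A.hom _))
      haveI : Smooth ((Neron.genericFibre R).obj A).hom := inferInstanceAs (Smooth (pullback.snd A.hom _))
      haveI : Smooth ((Neron.genericFibre R).obj B).hom := inferInstanceAs (Smooth (pullback.snd B.hom _))
      haveI : IsFinite ((Neron.genericFibre R).map φ).left :=
        NeronComp.IsogFib.lqf_of_finite_kernel _ hφ.2
      infer_instance
    rw [← Scheme.Hom.quasiFiniteLocus_eq_top_iff, eq_top_iff]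
    intro x _
    rw [Scheme.Hom.mem_quasiFiniteLocus]
    rcases NeronComp.PowFlat.eq_closedPoint_or_eq R (FractionRing R) (A.hom x) with hx | hx
    · exact quasiFiniteAt_of_bc φ ρ x (by rw [hρ, hx]; rfl)
    · exact quasiFiniteAt_of_bc φ j x ⟨_, hx.symm⟩

end Groth.Agent.NeronIsog
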