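import Groth.Agent.NeronComp.IsogFib
import Groth.Agent.NeronComp.PowFlat
import Groth.Agent.GrpSchLib.FibreDimGrp
import Groth.Agent.PushAmp.SmoothAmp
import Groth.Agent.Synt29.SmoothDim
import Mathlib.AlgebraicGeometry.Morphisms.UniversallyOpen

/-!
# Fibre dimensions of smooth groups and flat quasi-finite homomorphisms
-/

set_option autoImplicit false
set_option linter.style.haveILetI false
set_option backward.isDefEq.respectTransparency false
set_option backward.isDefEq.respectTransparency.types false

universe u

open CategoryTheory CategoryTheory.Limits MonoidalCategory CartesianMonoidalCategory MonObj GrpObj AlgebraicGeometry TopologicalSpace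

attribute [local instance] CategoryTheory.Hom.monoid CategoryTheory.Hom.group

noncomputable section

namespace Groth.Agent.NeronIsog

open Groth.Agent

/-- A point both closed and maximal in a locally noetherian scheme is isolated. -/
theorem isOpen_singleton_of_max {F : Scheme.{u}} [IsLocallyNoetherian F] {z : F}
    (hc : ∀ w, z ⤳ w → w = z) (hm : ∀ w, w ⤳ z → w = z) : IsOpen ({z} : Set F) := by
  obtain ⟨W, hW, hzW, -⟩ := exists_isAffineOpen_mem_and_subset (U := (⊤ : F.Opens)) (x := z) trivial
  haveI : IsAffine W.toScheme := hW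
  haveI : IsNoetherian W.toScheme := { }
  let z' : W.toScheme := ⟨z, hzW⟩
  let S : Set W.toScheme := ⋃ Z ∈ {Z ∈ irreducibleComponents W.toScheme | z' ∉ Z}, Z
  have hS : IsClosed S :=
    (NoetherianSpace.finite_irreducibleComponents.subset fun Z hZ => hZ.1).isClosed_biUnion
      fun Z hZ => isClosed_of_mem_irreducibleComponents Z hZ.1
  have hsingle : Sᶜ = {z'} := by
    ext w
    simp only [Set.mem_compl_iff, Set.mem_singleton_iff, S, Set.mem_iUnion₂, not_exists]
    refine ⟨fun h => ?_, fun h Z hZ hwZ => hZ.2 (h ▸ hwZ)⟩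
    have hzZ : z' ∈ irreducibleComponent w := by
      by_contra hz
      exact h _ ⟨irreducibleComponent_mem_irreducibleComponents w, hz⟩ mem_irreducibleComponent
    have hg := (isIrreducible_irreducibleComponent (x := w)).isGenericPoint_genericPoint_closure
    rw [isClosed_irreducibleComponent.closure_eq] at hg
    have he : (isIrreducible_irreducibleComponent (x := w)).genericPoint = z' :=
      W.ι.isOpenEmbedding.injective (hm _ ((hg.specializes hzZ).map W.ι.continuous))
    rw [he] at hg
    exact W.ι.isOpenEmbedding.injective (hc _ ((hg.specializes mem_irreducibleComponent).map W.ι.continuous))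
  have h1 : IsOpen ({z'} : Set W.toScheme) := hsingle ▸ hS.isOpen_compl
  have h2 := W.ι.isOpenEmbedding.isOpenMap _ h1
  rwa [Set.image_singleton] at h2

/-- A homomorphism of groups over a field of equal dimensions carrying a maximal point to a maximal
point is quasi-finite. -/
theorem lqf_of_maxPt {k : Type u} [Field k] {G H : Over (Spec (CommRingCat.of k))} [GrpObj G] [GrpObj H]
    [LocallyOfFiniteType G.hom] [LocallyOfFiniteType H.hom] (u : G ⟶ H) [IsMonHom u]
    (hdim : topologicalKrullDim G.left = topologicalKrullDim H.left) {g : G.left}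
    (hg : GrpSchLib.IsMaxPt g) (hg' : GrpSchLib.IsMaxPt (u.left g)) : LocallyQuasiFinite u.left := by
  haveI : LocallyOfFiniteType (u.left ≫ H.hom) := by rw [Over.w u]; infer_instance
  haveI : LocallyOfFiniteType u.left := locallyOfFiniteType_of_comp u.left H.hom
  haveI : IsLocallyNoetherian G.left := LocallyOfFiniteType.isLocallyNoetherian G.hom
  have hdeg : VarDim.deg G.hom g = VarDim.deg H.hom (u.left g) := by
    rw [GrpSchLib.topologicalKrullDim_eq_deg hg, GrpSchLib.topologicalKrullDim_eq_deg hg'] at hdim
    exact_mod_cast hdim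
  have hf : VarDim.fdeg u.left g = 0 := by
    have := VarDim.deg_eq_add u.left H.hom (Over.w u) g
    omega
  have hqf : u.left.QuasiFiniteAt g := by
    rw [Scheme.Hom.quasiFiniteAt_iff_isOpen_singleton_asFiber]
    haveI : IsLocallyNoetherian (u.left.fiber (u.left g)) :=
      LocallyOfFiniteType.isLocallyNoetherian (u.left.fiberToSpecResidueField (u.left g))
    refine isOpen_singleton_of_max (fun w hw => ?_) fun w hw => ?_
    · have h1 := (u.left.fiberι (u.left g)).continuous
      have hw' : g ⤳ u.left.fiberι (u.left g) w := by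
        have := hw.map h1
        rwa [u.left.fiberι_asFiber] at this
      have hd : VarDim.deg G.hom g ≤ VarDim.deg G.hom (u.left.fiberι (u.left g) w) := by
        have h2 := VarDim.deg_eq_add u.left H.hom (Over.w u) (u.left.fiberι (u.left g) w)
        have h3 : u.left (u.left.fiberι (u.left g) w) = u.left g := by
          have : u.left.fiberι (u.left g) w ∈ Set.range (u.left.fiberι (u.left g)) := ⟨w, rfl⟩
          rwa [Scheme.Hom.range_fiberι] at this
        rw [h3] at h2
        omega
      exact (u.left.fiberι (u.left g)).isEmbedding.injective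
        ((VarDim.eq_of_specializes_of_deg_le G.hom hw' hd).symm.trans (u.left.fiberι_asFiber g).symm)
    · have hw' : u.left.fiberι (u.left g) w ⤳ g := by
        have := hw.map (u.left.fiberι (u.left g)).continuous
        rwa [u.left.fiberι_asFiber] at this
      exact (u.left.fiberι (u.left g)).isEmbedding.injective ((hg _ hw').trans (u.left.fiberι_asFiber g).symm)
  rw [← Scheme.Hom.quasiFiniteLocus_eq_top_iff, eq_top_iff]
  intro x _
  rw [Scheme.Hom.mem_quasiFiniteLocus, ← GrpSchLib.HomFibre.mem_loc_LQ_iff]
  exact GrpSchLib.Saturate.saturated (GrpSchLib.Saturate.homAction u) u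
    (GrpSchLib.Saturate.equivariant_hom u) GrpSchLib.Loci.compat_LQ
    ⟨inferInstance, inferInstance⟩ (x := g)
    ((GrpSchLib.HomFibre.mem_loc_LQ_iff u.left g).2 hqf) (Subsingleton.elim _ _)

/-- A flat homomorphism of groups over a field of equal dimensions is quasi-finite. -/
theorem lqf_of_flat {k : Type u} [Field k] {G H : Over (Spec (CommRingCat.of k))} [GrpObj G] [GrpObj H]
    [LocallyOfFiniteType G.hom] [LocallyOfFiniteType H.hom] (u : G ⟶ H) [IsMonHom u] [Flat u.left]
    (hdim : topologicalKrullDim G.left = topologicalKrullDim H.left) : LocallyQuasiFinite u.left := by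
  obtain ⟨g, hg, -⟩ := GrpSchLib.exists_isMaxPt ((η[G] : 𝟙_ _ ⟶ G).left (IsLocalRing.closedPoint k))
  refine lqf_of_maxPt u hdim hg fun d hd => ?_
  obtain ⟨d', hd', hd''⟩ := Flat.generalizingMap u.left hd
  rw [← hd'', hg d' hd']

/-- The fibres of a smooth group over an irreducible base have the same dimension. -/
theorem dim_preimage_eq {S : Scheme.{u}} [IrreducibleSpace S] (G : Over S) [GrpObj G] [Smooth G.hom] (s : S) :
    topologicalKrullDim ↥(G.hom ⁻¹' {s}) = topologicalKrullDim ↥(G.hom ⁻¹' {genericPoint S}) := by
  let x := GrpSchLib.Neutral.unit G s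
  obtain ⟨n, W, hxW, hW⟩ := PushAmp.exists_smoothOfRelativeDimension_nhd G.hom x
  haveI := hW
  have hηx : genericPoint S ⤳ G.hom x := genericPoint_specializes _
  obtain ⟨y, hyx, hy⟩ := Flat.generalizingMap G.hom hηx
  have hyW : y ∈ W := hyx.mem_open W.isOpen hxW
  have h1 := GrpSchLib.FibreDimGrp.fibreDimAt_eq G x
  have h2 := GrpSchLib.FibreDimGrp.fibreDimAt_eq G y
  rw [Synt29.SmoothDim.fibreDimAt_eq_of_nhd G.hom W n hxW, GrpSchLib.Neutral.hom_unit] at h1
  rw [Synt29.SmoothDim.fibreDimAt_eq_of_nhd G.hom W n hyW, hy] at h2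
  exact h1.symm.trans h2

/-- The dimension of a fibre as a scheme. -/
theorem dim_bc {S : Scheme.{u}} (G : Over S) (s : S) :
    topologicalKrullDim ↥((Over.pullback (S.fromSpecResidueField s)).obj G).left =
      topologicalKrullDim ↥(G.hom ⁻¹' {s}) :=
  (G.hom.fiberHomeo s).isHomeomorph.topologicalKrullDim_eq _

end Groth.Agent.NeronIsog
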