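import Groth.Agent.NeronIsog.Main
import Groth.Agent.IsogLib.Field
import Groth.Agent.TorsLift.Basic
import Groth.Agent.NeronComp.GoodInertia

/-!
# Isogenies of invertible degree between Néron models
-/

set_option autoImplicit false
set_option linter.style.haveILetI false
set_option backward.isDefEq.respectTransparency false
set_option backward.isDefEq.respectTransparency.types false
set_option maxHeartbeats 1000000
set_option synthInstance.maxHeartbeats 400000

universe u

open CategoryTheory CategoryTheory.Limits MonoidalCategory CartesianMonoidalCategory MonObj GrpObj AlgebraicGeometry TopologicalSpace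

attribute [local instance] CategoryTheory.Hom.monoid CategoryTheory.Hom.group

noncomputable section

namespace Groth.Agent.NeronIsog

open Groth.Agent

variable {R : Type u} [CommRing R] [IsDomain R]

/-- A homomorphism of abelian varieties with finite kernel divides multiplication by the order of the kernel. -/
theorem exists_quasiInverse_deg {K : Type u} [Field K] {A B : Over (Spec (CommRingCat.of K))}
    [GrpObj A] [IsProper A.hom] [GeometricallyIntegral A.hom]
    [GrpObj B] [IsProper B.hom] [GeometricallyIntegral B.hom] [Smooth B.hom]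
    (f : A ⟶ B) [IsMonHom f] (hf : SGA7.IsIsogenyOver f)
    (N : Over (Spec (CommRingCat.of K))) (i : N ⟶ A) (hN : AlgGrp.IsKernel i f) :
    ∀ x, ∃ g : B ⟶ A, f ≫ g = 𝟙 A ^ N.hom.finrank x := by
  intro x
  haveI : GeometricallyConnected A.hom := AVTorsLib.geometricallyConnected_of_geometricallyIntegral A.hom
  haveI : GeometricallyConnected B.hom := AVTorsLib.geometricallyConnected_of_geometricallyIntegral B.hom
  haveI : IsFinite f.left := NeronComp.IsogFib.lqf_of_finite_kernel f hf.2
  haveI := hf.1
  haveI : Flat f.left := NeronComp.IsogFib.flat_of_lqf f (NeronComp.IsogFib.dim_eq_of_surjective f)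
  haveI : LocallyOfFinitePresentation (f.left ≫ B.hom) := by rw [Over.w]; infer_instance
  haveI : LocallyOfFinitePresentation f.left := S12442.locallyOfFinitePresentation_of_comp f.left B.hom
  haveI : Subsingleton ↥(Spec (CommRingCat.of K)) := inferInstanceAs (Subsingleton (PrimeSpectrum K))
  let b : B.left := η[B].left x
  have e : N.hom.finrank x = f.left.finrank b :=
    Scheme.Hom.finrank_of_isPullback i.left N.hom f.left η[B].left (hN.map (Over.forget _)) x
  have hn : 1 ≤ Scheme.Hom.finrank f.left b :=
    (Scheme.Hom.one_le_finrank_iff_surjective f.left).2 inferInstance _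
  obtain ⟨⟨g, ⟨-, hfg⟩, -⟩, -⟩ := S7790.result A B f _ hn fun s => by
    show f.left.finrank (η[B].left s) = _
    rw [show s = x from Subsingleton.elim _ _]
  exact ⟨g, e ▸ hfg⟩

theorem etale_kernel (A B : Over (Spec (CommRingCat.of R))) [GrpObj A] [GrpObj B]
    (hA : Neron.IsNeronModelOf R A ((Neron.genericFibre R).obj A) (Iso.refl _))
    (hB : Neron.IsNeronModelOf R B ((Neron.genericFibre R).obj B) (Iso.refl _))
    [IsProper ((Neron.genericFibre R).obj A).hom] [GeometricallyIntegral ((Neron.genericFibre R).obj A).hom]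
    [IsProper ((Neron.genericFibre R).obj B).hom] [GeometricallyIntegral ((Neron.genericFibre R).obj B).hom]
    (φ : A ⟶ B) [IsMonHom φ] (hφ : SGA7.IsIsogenyOver ((Neron.genericFibre R).map φ))
    (n : ℕ) (hn : IsUnit (n : R))
    (hg : ∃ g, (Neron.genericFibre R).map φ ≫ g = 𝟙 ((Neron.genericFibre R).obj A) ^ n) :
    Etale φ.left := by
  haveI := hA.1; haveI := hA.2.1; haveI := hA.2.2.2.1
  haveI := hB.1; haveI := hB.2.1; haveI := hB.2.2.2.1
  let F := Neron.genericFibre R
  haveI : IsCommMonObj (F.obj A) := isCommMonObj_of_isProper_of_geometricallyIntegral _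
  haveI : IsCommMonObj A := NeronComp.isCommMonObj_of_genericFibre (R := R) (K := FractionRing R) A
  obtain ⟨g₀, hg₀⟩ := hg
  obtain ⟨g, hgg⟩ := (hA.2.2.2.2 B hB.1).2 g₀
  have hgg' : F.map g = g₀ := by simpa using hgg
  have hfac : φ ≫ g = 𝟙 A ^ n := by
    refine (hA.2.2.2.2 A hA.1).1 ?_
    show F.map (φ ≫ g) ≫ (Iso.refl _).hom = F.map (𝟙 A ^ n) ≫ (Iso.refl _).hom
    rw [F.map_comp, hgg', hg₀, H23.MulEtale.map_pow]
  have hres : ∀ s : Spec (CommRingCat.of R), (n : (Spec (CommRingCat.of R)).residueField s) ≠ 0 := fun s h0 => by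
    have := hn.map ((Scheme.ΓSpecIso (CommRingCat.of R)).inv ≫
      (Spec (CommRingCat.of R)).evaluation ⊤ s trivial).hom
    rw [map_natCast, h0] at this
    exact not_isUnit_zero this
  haveI : Etale (φ.left ≫ g.left) := by
    rw [← Over.comp_left, hfac]
    exact TorsLift.etale_pow A n hres
  haveI : FormallyUnramified φ.left := FormallyUnramified.of_comp φ.left g.left
  haveI : LocallyOfFiniteType φ.left := locallyOfFiniteType_of_comp φ.left g.left
  haveI : LocallyQuasiFinite φ.left := LocallyQuasiFinite.of_comp φ.left g.left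
  haveI : Flat φ.left := (lqf_iff_flat φ hφ).1 inferInstance
  haveI : LocallyOfFinitePresentation (φ.left ≫ B.hom) := by rw [Over.w]; infer_instance
  haveI : LocallyOfFinitePresentation φ.left := S12442.locallyOfFinitePresentation_of_comp φ.left B.hom
  exact Etale.of_formallyUnramified_of_flat φ.left

/-- The kernel is a Néron model. -/
theorem isNeronModel_kernel (A B : Over (Spec (CommRingCat.of R))) [GrpObj B]
    (hA : Neron.IsNeronModelOf R A ((Neron.genericFibre R).obj A) (Iso.refl _))
    (hB : Neron.IsNeronModelOf R B ((Neron.genericFibre R).obj B) (Iso.refl _))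
    (φ : A ⟶ B) [Etale φ.left] (N : Over (Spec (CommRingCat.of R))) (i : N ⟶ A) (hN : AlgGrp.IsKernel i φ) :
    Neron.IsNeronModelOf R N ((Neron.genericFibre R).obj N) (Iso.refl _) ∧ Etale N.hom := by
  haveI := hA.2.1; haveI := hA.2.2.2.1; haveI := hB.2.1
  have sq : IsPullback i.left N.hom φ.left η[B].left := hN.map (Over.forget _)
  haveI : QuasiCompact (φ.left ≫ B.hom) := by rw [Over.w φ]; infer_instance
  haveI : QuasiCompact φ.left := QuasiCompact.of_comp φ.left B.hom
  haveI : IsSeparated (φ.left ≫ B.hom) := by rw [Over.w φ]; infer_instance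
  haveI : IsSeparated φ.left := IsSeparated.of_comp φ.left B.hom
  haveI hN' : Etale N.hom := MorphismProperty.of_isPullback (P := @Etale) sq inferInstance
  haveI : QuasiCompact N.hom := MorphismProperty.of_isPullback (P := @QuasiCompact) sq inferInstance
  haveI : IsSeparated N.hom := MorphismProperty.of_isPullback (P := @IsSeparated) sq inferInstance
  haveI : Mono η[B] := (SplitMono.mk (toUnit B) (toUnit_unique _ _)).mono
  haveI : Mono i := MorphismProperty.of_isPullback (P := MorphismProperty.monomorphisms _) hN.flip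
    (show MorphismProperty.monomorphisms _ η[B] from inferInstance)
  let F := Neron.genericFibre R
  refine ⟨⟨inferInstance, inferInstance, inferInstance, inferInstance, fun Y hY => ⟨fun a b h => ?_, fun h => ?_⟩⟩, hN'⟩
  · rw [← cancel_mono i]
    refine (hA.2.2.2.2 Y hY).1 ?_
    have h' : F.map a = F.map b := by simpa using h
    show F.map (a ≫ i) ≫ (Iso.refl _).hom = F.map (b ≫ i) ≫ (Iso.refl _).hom
    rw [F.map_comp, F.map_comp, h']
  · obtain ⟨a, ha⟩ := (hA.2.2.2.2 Y hY).2 (h ≫ F.map i)
    have ha' : F.map a = h ≫ F.map i := by simpa using ha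
    have h1 : a ≫ φ = toUnit Y ≫ η[B] := by
      refine (hB.2.2.2.2 Y hY).1 ?_
      show F.map (a ≫ φ) ≫ (Iso.refl _).hom = F.map (toUnit Y ≫ η[B]) ≫ (Iso.refl _).hom
      have h2 : h ≫ F.map (toUnit N) = F.map (toUnit Y) := by
        refine Over.OverMorphism.ext (pullback.hom_ext ?_ ?_)
        · have hp : ∀ r : F.obj Y ⟶ F.obj (𝟙_ (Over (Spec (CommRingCat.of R)))),
              r.left ≫ pullback.fst (𝟙_ (Over (Spec (CommRingCat.of R)))).hom _ = (F.obj Y).hom ≫ Neron.genPt R := fun r => by
            rw [← Over.w r, Category.assoc]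
            exact (congrArg (r.left ≫ ·) ((Category.comp_id _).symm.trans pullback.condition))
          exact (hp _).trans (hp _).symm
        · exact (Over.w _).trans (Over.w _).symm
      simp only [Iso.refl_hom, Category.comp_id]
      rw [F.map_comp, ha', Category.assoc, ← F.map_comp, hN.w, F.map_comp, ← Category.assoc, h2,
        F.map_comp]
    refine ⟨hN.lift a (toUnit Y) h1, ?_⟩
    haveI := Functor.map_mono F i
    show F.map (hN.lift a (toUnit Y) h1) ≫ (Iso.refl _).hom = h
    rw [Iso.refl_hom, Category.comp_id, ← cancel_mono (F.map i), ← F.map_comp, hN.lift_fst, ha']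

end Groth.Agent.NeronIsog
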