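import Groth.Agent.Deform.LinSect.Ga
import Groth.Agent.Deform.AffineKernel
import Groth.Agent.GrpSchLib.CharZeroPts

/-!
# Sections of an extension by the additive group over affine pieces of the quotient
-/

set_option autoImplicit false
set_option linter.style.haveILetI false
set_option backward.isDefEq.respectTransparency false
set_option backward.isDefEq.respectTransparency.types false
set_option synthInstance.maxHeartbeats 400000

universe u

open CategoryTheory CategoryTheory.Limits MonoidalCategory CartesianMonoidalCategory AlgebraicGeometry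
open scoped MonObj
open Groth.Agent.GrpSchLib

attribute [local instance] CategoryTheory.Hom.monoid CategoryTheory.Hom.group

noncomputable section

namespace Groth.Agent.NeronIsog.GaSect

open Deform.LinSect (down downMap gaDown gaFn_gaDown)

variable {k : Type u} [Field k] {A C D : Over (Spec (CommRingCat.of k))}

theorem gd_mul {T : Over A.left} (g h : T ⟶ Red.Ga A.left) : gaDown (g * h) = gaDown g * gaDown h := by
  refine GaPts.gaFn_injective (S := Spec (CommRingCat.of k)) ?_
  show Red.gaFn _ = Red.gaFn _
  rw [GaPts.gaFn_mul]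
  exact (GaPts.gaFn_ptOfFn (T := down T) _).trans ((GaPts.gaFn_mul g h).trans
    (congrArg₂ (· + ·) (GaPts.gaFn_ptOfFn (T := down T) _).symm (GaPts.gaFn_ptOfFn (T := down T) _).symm))

theorem gd_comp {T T' : Over A.left} (f : T' ⟶ T) (g : T ⟶ Red.Ga A.left) :
    gaDown (f ≫ g) = downMap f ≫ gaDown g := by
  refine GaPts.gaFn_injective (S := Spec (CommRingCat.of k)) ?_
  show Red.gaFn _ = Red.gaFn _
  rw [GaPts.gaFn_comp]
  exact (GaPts.gaFn_ptOfFn (T := down T') _).trans ((GaPts.gaFn_comp f g).trans
    (congrArg f.left.appTop (GaPts.gaFn_ptOfFn (T := down T) _).symm))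

theorem gd_bijective {T : Over A.left} :
    Function.Bijective (gaDown : (T ⟶ Red.Ga A.left) → (down T ⟶ Red.Ga (Spec (CommRingCat.of k)))) := by
  refine ⟨fun g h e => GaPts.gaFn_injective ?_, fun z => ⟨GaPts.ptOfFn (T := T) (S := A.left) (Red.gaFn (X := down T) z), ?_⟩⟩
  · show Red.gaFn g = Red.gaFn h
    exact (GaPts.gaFn_ptOfFn (T := down T) _).symm.trans ((congrArg Red.gaFn e).trans (GaPts.gaFn_ptOfFn (T := down T) _))
  · refine GaPts.gaFn_injective (S := Spec (CommRingCat.of k)) ?_
    show Red.gaFn _ = Red.gaFn _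
    exact (GaPts.gaFn_ptOfFn (T := down T) _).trans (GaPts.gaFn_ptOfFn (T := T) _)

theorem gd_one {T : Over A.left} : gaDown (1 : T ⟶ Red.Ga A.left) = 1 := by
  refine GaPts.gaFn_injective (S := Spec (CommRingCat.of k)) ?_
  show Red.gaFn _ = Red.gaFn _
  rw [GaPts.gaFn_one]
  exact (GaPts.gaFn_ptOfFn (T := down T) _).trans GaPts.gaFn_one

variable [GrpObj C] [GrpObj D]

/-- A point of the pulled-back bundle as a point of the total space. -/
def up (q : C ⟶ D) (j : A ⟶ D) {T : Over A.left} (x : T ⟶ Over.mk (pullback.snd q.left j.left)) : down T ⟶ C :=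
  Over.homMk (x.left ≫ pullback.fst q.left j.left) (by
    show (x.left ≫ _) ≫ C.hom = T.hom ≫ A.hom
    rw [← Over.w q, Category.assoc, pullback.condition_assoc, Over.w j]
    exact ((Category.assoc _ _ _).symm).trans (congrArg (· ≫ A.hom) (Over.w x)))

theorem up_q (q : C ⟶ D) (j : A ⟶ D) {T : Over A.left} (x : T ⟶ Over.mk (pullback.snd q.left j.left)) :
    (up q j x ≫ q).left = T.hom ≫ j.left := by
  show (x.left ≫ pullback.fst q.left j.left) ≫ q.left = _
  rw [Category.assoc, pullback.condition, ← Category.assoc]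
  exact congrArg (· ≫ j.left) (Over.w x)

theorem up_injective (q : C ⟶ D) (j : A ⟶ D) {T : Over A.left} {x y : T ⟶ Over.mk (pullback.snd q.left j.left)}
    (h : up q j x = up q j y) : x = y :=
  Over.OverMorphism.ext (pullback.hom_ext (congrArg CommaMorphism.left h) ((Over.w x).trans (Over.w y).symm))

theorem up_comp (q : C ⟶ D) (j : A ⟶ D) {T T' : Over A.left} (f : T' ⟶ T)
    (x : T ⟶ Over.mk (pullback.snd q.left j.left)) : up q j (f ≫ x) = downMap f ≫ up q j x :=
  Over.OverMorphism.ext (Category.assoc _ _ _)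

/-- **An extension by the additive group has sections over affine schemes mapping to the quotient.** -/
theorem exists_lift [IsAffine A.left] (q : C ⟶ D) [IsMonHom q] [Flat q.left] [Surjective q.left] [IsAffineHom q.left]
    (i : Red.Ga (Spec (CommRingCat.of k)) ⟶ C) [IsMonHom i] (hk : AlgGrp.IsKernel i q) (j : A ⟶ D) :
    ∃ s : A ⟶ C, s ≫ q = j := by
  have hiq : i ≫ q = 1 := hk.w
  have hker : ∀ {T : Over A.left} (g : T ⟶ Red.Ga A.left) (c : down T ⟶ C),
      ((gaDown g ≫ i) * c) ≫ q = c ≫ q := by
    intro T g c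
    rw [MonObj.mul_comp, Category.assoc, hiq, MonObj.comp_one, _root_.one_mul]
  let X : Over A.left := Over.mk (pullback.snd q.left j.left)
  let G₀ : Over A.left := Red.Ga A.left
  let act : G₀ ⊗ X ⟶ X := Over.homMk
    (pullback.lift ((gaDown (fst G₀ X) ≫ i) * up q j (snd G₀ X)).left (G₀ ⊗ X).hom
      ((congrArg CommaMorphism.left (hker (fst G₀ X) (up q j (snd G₀ X)))).trans (up_q q j _)))
    (pullback.lift_snd _ _ _)
  have hact : up q j act = (gaDown (fst G₀ X) ≫ i) * up q j (snd G₀ X) :=
    Over.OverMorphism.ext (pullback.lift_fst _ _ _)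
  have hpts : ∀ {T : Over A.left} (g : T ⟶ G₀) (x : T ⟶ X),
      up q j (lift g x ≫ act) = (gaDown g ≫ i) * up q j x := by
    intro T g x
    rw [up_comp, hact, MonObj.comp_mul, ← Category.assoc, ← gd_comp, ← up_comp, lift_fst, lift_snd]
  let a : AlgGrp.Action G₀ X :=
    { act := act
      one_act := by
        refine up_injective q j ?_
        rw [show (η[G₀] ▷ X) = lift (1 : _ ⟶ G₀) (snd _ _) by
            rw [← tensorHom_id, ← lift_fst_comp_snd_comp, Category.comp_id, Hom.one_def,
              toUnit_unique (toUnit _) (fst _ _)],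
          hpts, gd_one, MonObj.one_comp, _root_.one_mul, leftUnitor_hom]
      mul_act := by
        refine up_injective q j ?_
        have e1 : (μ[G₀] ▷ X) = lift ((fst _ _ ≫ fst G₀ G₀) * (fst _ _ ≫ snd G₀ G₀)) (snd _ X) := by
          rw [Hom.mul_def, ← comp_lift, lift_fst_snd, Category.comp_id, ← tensorHom_id, ← lift_fst_comp_snd_comp,
            Category.comp_id]
        have e2 : (α_ G₀ G₀ X).hom = lift (fst _ _ ≫ fst _ _) (lift (fst _ _ ≫ snd _ _) (snd _ _)) := by
          rw [← lift_lift_associator_hom, lift_comp_fst_snd, lift_fst_snd, Category.id_comp]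
        rw [e1, e2, hpts, lift_whiskerLeft_assoc, hpts, hpts, gd_mul, MonObj.mul_comp, _root_.mul_assoc] }
  have hmul : ∀ {T : Over A.left} (y x : T ⟶ X), ∃ g : T ⟶ G₀, lift g x ≫ act = y := by
    intro T y x
    obtain ⟨b, hb, -⟩ := hk.exists_lift (up q j y * (up q j x)⁻¹) (toUnit (down T)) (by
      have e : up q j y ≫ q = up q j x ≫ q :=
        Over.OverMorphism.ext ((up_q q j y).trans (up_q q j x).symm)
      rw [MonObj.mul_comp, GrpObj.inv_comp, e, mul_inv_cancel, Hom.one_def])
    obtain ⟨g, rfl⟩ := gd_bijective.2 b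
    exact ⟨g, up_injective q j (by rw [hpts, hb, inv_mul_cancel_right])⟩
  have hfree : ∀ {T : Over A.left} (g h : T ⟶ G₀) (x : T ⟶ X), lift g x ≫ act = lift h x ≫ act → g = h := by
    intro T g h x e
    have e' := congrArg (up q j) e
    rw [hpts, hpts] at e'
    exact gd_bijective.1 (hk.hom_ext (mul_right_cancel e') (toUnit_unique _ _))
  have ha : NonAbH1.IsPseudoTorsorSch a := by
    obtain ⟨g, hg⟩ := hmul (fst X X) (snd X X)
    refine ⟨lift g (snd X X), ?_, ?_⟩
    · apply CartesianMonoidalCategory.hom_ext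
      · rw [Category.id_comp, Category.assoc, lift_fst]
        refine hfree _ _ (snd G₀ X) ?_
        rw [lift_fst_snd, Category.id_comp]
        have := congrArg (lift a.act (snd G₀ X) ≫ ·) hg
        simp only [comp_lift_assoc, lift_fst, lift_snd] at this
        exact this
      · rw [Category.id_comp, Category.assoc, lift_snd, lift_snd]
    · apply CartesianMonoidalCategory.hom_ext
      · rw [Category.id_comp, Category.assoc, lift_fst]
        exact hg
      · rw [Category.id_comp, Category.assoc, lift_snd, lift_snd]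
  haveI : IsAffineHom X.hom := inferInstanceAs (IsAffineHom (pullback.snd q.left j.left))
  haveI : Flat X.hom := inferInstanceAs (Flat (pullback.snd q.left j.left))
  haveI : Surjective X.hom := inferInstanceAs (Surjective (pullback.snd q.left j.left))
  obtain ⟨B, _, _, hB, ⟨x₀⟩⟩ := Tors9.exists_cover_point (X := X) Γ(A.left, ⊤) A.left.isoSpec.inv
  obtain ⟨s, hs⟩ := Tors9.ga_hasSection (B := B) A.left.isoSpec.inv ha x₀
  have hs' : (A.left.isoSpec.hom ≫ s) ≫ pullback.snd q.left j.left = 𝟙 A.left := by
    rw [Category.assoc, show s ≫ pullback.snd q.left j.left = A.left.isoSpec.inv from hs]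
    exact A.left.isoSpec.hom_inv_id
  let x : Over.mk (𝟙 A.left) ⟶ X := Over.homMk (A.left.isoSpec.hom ≫ s) hs'
  refine ⟨Over.homMk (A.left.isoSpec.hom ≫ s ≫ pullback.fst q.left j.left) ?_, ?_⟩
  · have e := Over.w (up q j x)
    change (x.left ≫ pullback.fst q.left j.left) ≫ C.hom = 𝟙 A.left ≫ A.hom at e
    rw [Category.id_comp] at e
    rw [← Category.assoc A.left.isoSpec.hom s]
    exact e
  · refine Over.OverMorphism.ext ?_
    have e := up_q q j x
    change (x.left ≫ pullback.fst q.left j.left) ≫ q.left = 𝟙 A.left ≫ j.left at e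
    rw [Category.id_comp] at e
    show (A.left.isoSpec.hom ≫ s ≫ pullback.fst q.left j.left) ≫ q.left = j.left
    rw [← Category.assoc A.left.isoSpec.hom s]
    exact e

/-- A homomorphism to a group over a field with additive kernel is affine. -/
theorem isAffineHom_of_ga_kernel [IsCommMonObj C] [LocallyOfFiniteType C.hom] [LocallyOfFiniteType D.hom]
    [QuasiCompact C.hom] (q : C ⟶ D) [IsMonHom q] (i : Red.Ga (Spec (CommRingCat.of k)) ⟶ C) [IsMonHom i]
    (hk : AlgGrp.IsKernel i q) : IsAffineHom q.left := by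
  haveI : IsSeparated D.hom := GrpSchLib.CharZeroPts.isSeparated_grp D
  haveI : QuasiCompact q.left := by
    haveI : QuasiCompact (q.left ≫ D.hom) := by rw [Over.w]; infer_instance
    exact QuasiCompact.of_comp q.left D.hom
  haveI : IsClosedImmersion η[D].left := by
    haveI : IsClosedImmersion (η[D].left ≫ D.hom) := by
      rw [Over.w η[D]]
      exact inferInstanceAs (IsClosedImmersion (𝟙 _))
    exact IsClosedImmersion.of_comp η[D].left D.hom
  haveI : IsClosedImmersion i.left :=
    MorphismProperty.of_isPullback ((IsPullback.map (Over.forget _) hk).flip) ‹IsClosedImmersion η[D].left›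
  haveI : IsAffine (Red.Ga (Spec (CommRingCat.of k))).left := by
    haveI : IsAffine Red.GaZ.{u}.left := by show IsAffine (Spec _); infer_instance
    haveI : IsAffineHom Red.GaZ.{u}.hom := isAffineHom_of_isAffine _
    haveI : IsAffineHom (Red.Ga (Spec (CommRingCat.of k))).hom := by
      show IsAffineHom (Limits.pullback.snd _ _)
      exact MorphismProperty.pullback_snd _ _ inferInstance
    exact isAffine_of_isAffineHom (Red.Ga (Spec (CommRingCat.of k))).hom
  refine Deform.AffineKernel.isAffineHom_of_ker q i ?_ hk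
  intro T g n
  exact ⟨n, by rw [mul_comm g, mul_inv_cancel_right]⟩

end Groth.Agent.NeronIsog.GaSect
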