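import Groth.Agent.NeronIsog.Dim
import Groth.Agent.NeronIsog.Affine1
import Groth.Prelude.Def_Neron

/-!
# Homomorphisms of smooth groups over a Dedekind base with isogenous generic fibre
-/

set_option autoImplicit false
set_option linter.style.haveILetI false
set_option backward.isDefEq.respectTransparency false
set_option backward.isDefEq.respectTransparency.types false
set_option maxHeartbeats 1000000
set_option synthInstance.maxHeartbeats 400000

universe u

open CategoryTheory CategoryTheory.Limits MonoidalCategory CartesianMonoidalCategory MonObj GrpObj AlgebraicGeometry TopologicalSpace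

attribute [local instance] CategoryTheory.Hom.monoid CategoryTheory.Hom.group

noncomputable section

namespace Groth.Agent.NeronIsog

open Groth.Agent

variable (R : Type u) [CommRing R] [IsDomain R]

/-- The dimension of the generic fibre. -/
theorem dim_genericFibre (G : Over (Spec (CommRingCat.of R))) :
    topologicalKrullDim ↥((Neron.genericFibre R).obj G).left =
      topologicalKrullDim ↥(G.hom ⁻¹' {genericPoint (Spec (CommRingCat.of R))}) := by
  let j : Spec (CommRingCat.of (FractionRing R)) ⟶ Spec (CommRingCat.of R) :=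
    Spec.map (CommRingCat.ofHom (algebraMap R (FractionRing R)))
  haveI : IsPreimmersion j := IsPreimmersion.of_isLocalization (nonZeroDivisors R)
  haveI : IsPreimmersion (pullback.fst G.hom j) :=
    MorphismProperty.pullback_fst (P := @IsPreimmersion) _ _ inferInstance
  have hj : Set.range j = {genericPoint (Spec (CommRingCat.of R))} := by
    haveI : Subsingleton ↥(Spec (CommRingCat.of (FractionRing R))) :=
      inferInstanceAs (Subsingleton (PrimeSpectrum (FractionRing R)))
    refine Set.eq_singleton_iff_unique_mem.2 ⟨⟨IsLocalRing.closedPoint _, ?_⟩, ?_⟩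
    · rw [genericPoint_eq_bot_of_affine]
      refine PrimeSpectrum.ext ?_
      show Ideal.comap (algebraMap R (FractionRing R)) (IsLocalRing.maximalIdeal _) = ⊥
      rw [IsLocalRing.maximalIdeal_eq_bot, ← RingHom.ker_eq_comap_bot,
        (RingHom.injective_iff_ker_eq_bot _).1 (IsFractionRing.injective R (FractionRing R))]
    · rintro _ ⟨z, rfl⟩
      rw [genericPoint_eq_bot_of_affine]
      refine PrimeSpectrum.ext ?_
      show Ideal.comap (algebraMap R (FractionRing R)) z.asIdeal = ⊥
      rw [show z = IsLocalRing.closedPoint _ from Subsingleton.elim _ _,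
        show (IsLocalRing.closedPoint (FractionRing R)).asIdeal = IsLocalRing.maximalIdeal _ from rfl,
        IsLocalRing.maximalIdeal_eq_bot, ← RingHom.ker_eq_comap_bot,
        (RingHom.injective_iff_ker_eq_bot _).1 (IsFractionRing.injective R (FractionRing R))]
  have hr : Set.range (pullback.fst G.hom j) = G.hom ⁻¹' {genericPoint (Spec (CommRingCat.of R))} :=
    (Scheme.Pullback.range_fst G.hom j).trans (congrArg _ hj)
  exact ((pullback.fst G.hom j).isEmbedding.toHomeomorph.trans (Homeomorph.setCongr hr)).isHomeomorph.topologicalKrullDim_eq _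

variable {R}
variable {A B : Over (Spec (CommRingCat.of R))} [GrpObj A] [GrpObj B]

theorem dim_fibre_eq [Smooth A.hom] [Smooth B.hom] [QuasiCompact A.hom] (φ : A ⟶ B) [IsMonHom φ]
    (hφ : SGA7.IsIsogenyOver ((Neron.genericFibre R).map φ)) (s : Spec (CommRingCat.of R)) :
    topologicalKrullDim ↥(Red.bc ((Spec (CommRingCat.of R)).fromSpecResidueField s) A).left =
      topologicalKrullDim ↥(Red.bc ((Spec (CommRingCat.of R)).fromSpecResidueField s) B).left := by
  let F := Neron.genericFibre R
  haveI : Smooth (F.obj A).hom := inferInstanceAs (Smooth (pullback.snd A.hom _))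
  haveI : Smooth (F.obj B).hom := inferInstanceAs (Smooth (pullback.snd B.hom _))
  haveI : QuasiCompact (F.obj A).hom := inferInstanceAs (QuasiCompact (pullback.snd A.hom _))
  haveI : IsFinite (F.map φ).left := NeronComp.IsogFib.lqf_of_finite_kernel (F.map φ) hφ.2
  haveI := hφ.1
  have h := NeronComp.IsogFib.dim_eq_of_surjective (F.map φ)
  rw [dim_genericFibre, dim_genericFibre, ← dim_preimage_eq A s, ← dim_preimage_eq B s] at h
  exact ((dim_bc A s).trans h).trans (dim_bc B s).symm

theorem lqf_iff_flat [Smooth A.hom] [Smooth B.hom] [QuasiCompact A.hom] (φ : A ⟶ B) [IsMonHom φ]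
    (hφ : SGA7.IsIsogenyOver ((Neron.genericFibre R).map φ)) :
    LocallyQuasiFinite φ.left ↔ Flat φ.left := by
  let S := Spec (CommRingCat.of R)
  haveI : LocallyOfFiniteType (φ.left ≫ B.hom) := by rw [Over.w φ]; infer_instance
  haveI : LocallyOfFiniteType φ.left := locallyOfFiniteType_of_comp φ.left B.hom
  haveI hsm : ∀ (G : Over S) [Smooth G.hom] (s : S), Smooth (Red.bc (S.fromSpecResidueField s) G).hom :=
    fun G _ s => inferInstanceAs (Smooth (pullback.snd G.hom (S.fromSpecResidueField s)))
  haveI hmon : ∀ s : S, IsMonHom (GrpSchLib.HomFibre.fib φ s) := fun s =>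
    inferInstanceAs (IsMonHom ((Over.pullback (S.fromSpecResidueField s)).map φ))
  refine ⟨fun h => NeronComp.PowFlat.flat_of_fibres φ fun s => ?_,
    fun h => (NeronComp.PowFlat.lqf_iff_fibres φ).mpr fun s => ?_⟩
  · haveI := (NeronComp.PowFlat.lqf_iff_fibres φ).mp h s
    exact NeronComp.IsogFib.flat_of_lqf (GrpSchLib.HomFibre.fib φ s) (dim_fibre_eq φ hφ s)
  · haveI : Flat (GrpSchLib.HomFibre.fib φ s).left :=
      MorphismProperty.of_isPullback (P := @Flat)
        (GrpSchLib.HomFibre.map_isPullback φ (S.fromSpecResidueField s)) h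
    exact lqf_of_flat (GrpSchLib.HomFibre.fib φ s) (dim_fibre_eq φ hφ s)

/-- The kernel of a flat such homomorphism. -/
theorem kernel_props [IsNoetherianRing R] [Ring.KrullDimLE 1 R] [Smooth A.hom] [Smooth B.hom]
    [QuasiCompact A.hom] [IsSeparated A.hom] [IsSeparated B.hom] (φ : A ⟶ B) [IsMonHom φ]
    (hφ : SGA7.IsIsogenyOver ((Neron.genericFibre R).map φ)) [Flat φ.left]
    (N : Over (Spec (CommRingCat.of R))) (i : N ⟶ A) (hN : AlgGrp.IsKernel i φ) :
    (LocallyQuasiFinite N.hom ∧ QuasiCompact N.hom ∧ Flat N.hom ∧ IsAffineHom N.hom) ∧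
    (IsProper A.hom → IsFinite N.hom) := by
  have sq : IsPullback i.left N.hom φ.left η[B].left := hN.map (Over.forget _)
  haveI := (lqf_iff_flat φ hφ).2 ‹Flat φ.left›
  haveI : LocallyOfFiniteType (φ.left ≫ B.hom) := by rw [Over.w φ]; infer_instance
  haveI : LocallyOfFiniteType φ.left := locallyOfFiniteType_of_comp φ.left B.hom
  haveI : QuasiCompact (φ.left ≫ B.hom) := by rw [Over.w φ]; infer_instance
  haveI : QuasiCompact φ.left := QuasiCompact.of_comp φ.left B.hom
  haveI : IsSeparated (φ.left ≫ B.hom) := by rw [Over.w φ]; infer_instance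
  haveI : IsSeparated φ.left := IsSeparated.of_comp φ.left B.hom
  haveI hl : LocallyQuasiFinite N.hom := MorphismProperty.of_isPullback (P := @LocallyQuasiFinite) sq inferInstance
  haveI hq : QuasiCompact N.hom := MorphismProperty.of_isPullback (P := @QuasiCompact) sq inferInstance
  haveI hf : Flat N.hom := MorphismProperty.of_isPullback (P := @Flat) sq inferInstance
  haveI : LocallyOfFiniteType N.hom := MorphismProperty.of_isPullback (P := @LocallyOfFiniteType) sq inferInstance
  haveI : IsSeparated N.hom := MorphismProperty.of_isPullback (P := @IsSeparated) sq inferInstance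
  refine ⟨⟨hl, hq, hf, isAffineHom_of_lqf (CommRingCat.of R) N.hom⟩, fun hA => ?_⟩
  haveI := hA
  haveI : IsProper (φ.left ≫ B.hom) := by rw [Over.w φ]; infer_instance
  haveI : IsProper φ.left := IsProper.of_comp φ.left B.hom
  haveI : IsFinite φ.left := IsFinite.of_isProper_of_locallyQuasiFinite φ.left
  exact MorphismProperty.of_isPullback (P := @IsFinite) sq inferInstance

end Groth.Agent.NeronIsog
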