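import Groth.Agent.NeronIsog.Semistable
import Groth.Agent.Lib.AVMulN

/-!
# Multiplication on a Néron model
-/

set_option autoImplicit false
set_option linter.style.haveILetI false
set_option backward.isDefEq.respectTransparency false
set_option maxHeartbeats 1000000
set_option synthInstance.maxHeartbeats 400000

universe u

open CategoryTheory CategoryTheory.Limits MonoidalCategory CartesianMonoidalCategory MonObj GrpObj AlgebraicGeometry TopologicalSpace

attribute [local instance] CategoryTheory.Hom.monoid CategoryTheory.Hom.group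

noncomputable section

namespace Groth.Agent.NeronIsog

open Groth.Agent Groth.Agent.NeronComp

variable {S : Scheme.{u}} {G : Over S} [GrpObj G] [Smooth G.hom] (s : S)

/-- Multiplication by `n` is not quasi-finite on a fibre of characteristic dividing `n` containing `G_a`. -/
theorem noGa_of_lqf {n : ℕ} (hn0 : (n : S.residueField s) = 0)
    (h : LocallyQuasiFinite (GrpSchLib.HomFibre.fib (𝟙 G ^ n : G ⟶ G) s).left) :
    SGA7.FibreUnipotentRankZero s G := by
  intro j hj hjc
  let σ := S.fromSpecResidueField s
  let K : Type u := AlgebraicClosure (S.residueField s)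
  let π : Spec (CommRingCat.of K) ⟶ Spec (S.residueField s) :=
    Spec.map (CommRingCat.ofHom (algebraMap (S.residueField s) K))
  haveI : Mono j := (Over.forget _).mono_of_mono_map (inferInstanceAs (Mono j.left))
  haveI := hj; haveI := hjc
  -- the geometric fibre of the power is quasi-finite
  obtain ⟨e⟩ := GrpSchLib.MultTypeBC.bc_bc π σ G
  let b : Red.bc π (Red.bc σ G) ⟶ Red.geomFibre s G := e.hom.hom.hom
  let b' : Red.geomFibre s G ⟶ Red.bc π (Red.bc σ G) := e.inv.hom.hom
  haveI : IsMonHom b := e.hom.hom.isMonHom_hom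
  haveI : IsMonHom b' := e.inv.hom.isMonHom_hom
  haveI : IsIso b.left := ((Grp.forget _ ⋙ Over.forget _).mapIso e).isIso_hom
  haveI : IsIso b'.left := ((Grp.forget _ ⋙ Over.forget _).mapIso e).isIso_inv
  let H := Red.bc π (Red.bc σ G)
  have hp : LocallyQuasiFinite (𝟙 H ^ n : H ⟶ H).left := by
    rw [show GrpSchLib.HomFibre.fib (𝟙 G ^ n : G ⟶ G) s = (𝟙 (Red.bc (S.fromSpecResidueField s) G) ^ n) from
      Deform.Extension.pow_bc (S.fromSpecResidueField s) G n] at h
    rw [← Deform.Extension.pow_bc π (Red.bc σ G) n]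
    exact MorphismProperty.of_isPullback (P := @LocallyQuasiFinite)
      (Deform.Extension.isPullback_map_left π (𝟙 (Red.bc σ G) ^ n)).flip h
  haveI := hp
  let i := j ≫ b'
  haveI : IsClosedImmersion i.left := inferInstanceAs (IsClosedImmersion (j.left ≫ b'.left))
  let Ga' := Red.Ga (Spec (CommRingCat.of K))
  have hGa : (𝟙 Ga' ^ n : Ga' ⟶ Ga') = 1 := by
    apply GrpSchLib.GaPts.gaFn_injective
    have hpow : ∀ (m : ℕ), Red.gaFn (𝟙 Ga' ^ m : Ga' ⟶ Ga') = m • Red.gaFn (𝟙 Ga') := fun m => by
      induction m with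
      | zero => rw [pow_zero, zero_nsmul, GrpSchLib.GaPts.gaFn_one]
      | succ m ih => rw [pow_succ, GrpSchLib.GaPts.gaFn_mul, ih, succ_nsmul]
    show Red.gaFn (𝟙 Ga' ^ n : Ga' ⟶ Ga') = Red.gaFn (1 : Ga' ⟶ Ga')
    rw [hpow, GrpSchLib.GaPts.gaFn_one, nsmul_eq_mul]
    have hz : ((n : ℕ) : Γ(Ga'.left, ⊤)) = 0 := by
      have hK : (n : K) = 0 := by
        rw [← map_natCast (algebraMap (S.residueField s) K), hn0, map_zero]
      let φ := ((Scheme.ΓSpecIso (CommRingCat.of K)).inv ≫ Ga'.hom.appTop).hom
      rw [← map_natCast φ, show ((n : ℕ) : CommRingCat.of K) = 0 from hK, map_zero]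
    rw [hz, zero_mul]
  have hconst : i ≫ (𝟙 H ^ n : H ⟶ H) = 1 := by
    rw [MonObj.comp_pow, Category.comp_id, ← Category.id_comp i, ← Deform.Extension.pow_comp_hom i, hGa,
      MonObj.one_comp]
  -- hence the additive group would be quasi-finite over the base
  haveI : LocallyQuasiFinite (i ≫ (𝟙 H ^ n : H ⟶ H)).left := by
    rw [Over.comp_left]; infer_instance
  rw [hconst, Hom.one_def, Over.comp_left] at this
  haveI : LocallyQuasiFinite ((toUnit Ga').left ≫ η[H].left) := this
  haveI : LocallyQuasiFinite Ga'.hom := LocallyQuasiFinite.of_comp (toUnit Ga').left η[H].left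
  obtain ⟨e'⟩ := NoGa.ga_iso K
  let c := e'.inv.hom.hom
  haveI : IsIso c.left := ((Grp.forget _ ⋙ Over.forget _).mapIso e').isIso_inv
  haveI : LocallyQuasiFinite (GrpSchLib.AffineHopf.sp K (SymmetricAlgebra K K)).hom := by
    rw [← Over.w c]; infer_instance
  haveI : LocallyOfFiniteType (GrpSchLib.AffineHopf.sp K (SymmetricAlgebra K K)).hom := by
    have : LocallyOfFiniteType Ga'.hom := by
      haveI : LocallyOfFiniteType j.left := inferInstance
      haveI : LocallyOfFiniteType (Red.geomFibre s G).hom :=
        inferInstanceAs (LocallyOfFiniteType (pullback.snd G.hom _))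
      rw [← Over.w j]
      infer_instance
    rw [← Over.w c]
    infer_instance
  haveI : QuasiCompact (GrpSchLib.AffineHopf.sp K (SymmetricAlgebra K K)).hom :=
    inferInstanceAs (QuasiCompact (Spec.map _))
  haveI hF : IsFinite (GrpSchLib.AffineHopf.sp K (SymmetricAlgebra K K)).hom := IsFinite.of_locallyQuasiFinite _
  have hfin : (algebraMap K (SymmetricAlgebra K K)).Finite := (IsFinite.SpecMap_iff
    (f := CommRingCat.ofHom (algebraMap K (SymmetricAlgebra K K)))).mp hF
  haveI : Module.Finite K (SymmetricAlgebra K K) := RingHom.finite_algebraMap.mp hfin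
  let f : SymmetricAlgebra K K →ₐ[K] Polynomial K := SymmetricAlgebra.lift (LinearMap.toSpanSingleton K _ Polynomial.X)
  have hX : IsIntegral K (Polynomial.X : Polynomial K) := by
    have h := (IsIntegral.of_finite K (SymmetricAlgebra.ι K K 1)).map f
    rwa [show f (SymmetricAlgebra.ι K K 1) = Polynomial.X by simp [f]] at h
  exact Polynomial.transcendental_X K hX.isAlgebraic

set_option backward.isDefEq.respectTransparency.types false in
theorem flat_pow_iff (R : Type u) [CommRing R] [IsDomain R] [IsDiscreteValuationRing R]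
    (A : Over (Spec (CommRingCat.of R))) [GrpObj A] [IsCommMonObj A]
    (hA : Neron.IsNeronModelOf R A ((Neron.genericFibre R).obj A) (Iso.refl _))
    [IsProper ((Neron.genericFibre R).obj A).hom] [GeometricallyIntegral ((Neron.genericFibre R).obj A).hom]
    (n : ℕ) (hn : 1 ≤ n) :
    Flat ((𝟙 A : A ⟶ A) ^ n).left ↔
      (ringChar (IsLocalRing.ResidueField R) ∣ n →
        SGA7.HasSemistableReduction R (FractionRing R) ((Neron.genericFibre R).obj A)) := by
  haveI := hA.1; haveI := hA.2.1; haveI := hA.2.2.2.1
  let S := Spec (CommRingCat.of R)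
  let F := Neron.genericFibre R
  let φ : A ⟶ A := (𝟙 A : A ⟶ A) ^ n
  haveI : IsMonHom φ := WittEndoLib.isMonHom_of_mul _ fun Y x y => by
    simp only [φ, MonObj.comp_pow, Category.comp_id, mul_pow]
  haveI : IsCommMonObj (F.obj A) := isCommMonObj_of_isProper_of_geometricallyIntegral _
  have hmap : F.map φ = 𝟙 (F.obj A) ^ n := H23.MulEtale.map_pow (Neron.genPt R) n
  haveI : IsFinite (F.map φ).left := by rw [hmap]; exact AVMulN.isFinite_pow n hn
  have hiso : SGA7.IsIsogenyOver (F.map φ) := by
    refine ⟨by rw [hmap]; exact AVMulN.surjective_pow n hn, fun P i hk => ?_⟩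
    have sq : IsPullback i.left P.hom (F.map φ).left η[F.obj A].left := hk.map (Over.forget _)
    exact MorphismProperty.of_isPullback (P := @IsFinite) sq inferInstance
  refine ⟨fun hfl hp => ?_, fun h => ?_⟩
  · haveI : LocallyOfFiniteType (φ.left ≫ A.hom) := by rw [Over.w φ]; infer_instance
    haveI : LocallyOfFiniteType φ.left := locallyOfFiniteType_of_comp φ.left A.hom
    have hq := (PowFlat.lqf_iff_fibres φ).mp ((lqf_iff_flat φ hiso).2 hfl)
    refine ⟨A, inferInstance, Iso.refl _, inferInstanceAs (IsMonHom (𝟙 _)), hA.1, hA.2.1, hA.2.2.2.1,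
      fun x => ?_⟩
    rcases PowFlat.eq_closedPoint_or_eq R (FractionRing R) x with rfl | rfl
    · exact noGa_of_lqf (G := A) (IsLocalRing.closedPoint R : S)
        ((PowFlat.natCast_residueField_closedPoint R n).mpr ((ringChar.spec _ _).2 hp)) (hq _)
    · intro j hj hjc
      let σ := S.fromSpecResidueField (Neron.genPt R (IsLocalRing.closedPoint (FractionRing R)))
      haveI : IsProper (Red.bc σ A).hom := FibreEndo.isProper_fibre A.hom (Neron.genPt R)
        ‹IsProper (F.obj A).hom›
      let π : Spec (CommRingCat.of (AlgebraicClosure (S.residueField (Neron.genPt R (IsLocalRing.closedPoint (FractionRing R)))))) ⟶ _ :=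
        Spec.map (CommRingCat.ofHom (algebraMap (S.residueField (Neron.genPt R (IsLocalRing.closedPoint (FractionRing R)))) _))
      obtain ⟨e⟩ := GrpSchLib.MultTypeBC.bc_bc π σ A
      let b' := e.inv.hom.hom
      haveI : IsMonHom b' := e.inv.hom.isMonHom_hom
      haveI : IsIso b'.left := ((Grp.forget _ ⋙ Over.forget _).mapIso e).isIso_inv
      haveI : IsProper (Red.bc π (Red.bc σ A)).hom := MorphismProperty.pullback_snd (P := @IsProper) _ _ ‹_›
      haveI := hj; haveI := hjc
      exact FibreEndo.noGa_of_proper _ (j ≫ b') inferInstance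
        (inferInstanceAs (IsClosedImmersion (j.left ≫ b'.left)))
  · by_cases hp : ringChar (IsLocalRing.ResidueField R) ∣ n
    · exact flat_of_semistable R A A hA hA φ hiso (h hp)
    · have hu : IsUnit (n : R) := by
        by_contra hu
        refine hp ((ringChar.spec (IsLocalRing.ResidueField R) _).1 ?_)
        rw [← map_natCast (IsLocalRing.residue R), IsLocalRing.residue_eq_zero_iff]
        exact hu
      haveI : Etale φ.left := TorsLift.etale_pow A n fun s h0 => by
        have := hu.map ((Scheme.ΓSpecIso (CommRingCat.of R)).inv ≫ S.evaluation ⊤ s trivial).hom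
        rw [map_natCast, h0] at this
        exact not_isUnit_zero this
      exact (inferInstance : Flat φ.left)

end Groth.Agent.NeronIsog
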