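import Groth.Agent.NeronIsog.Etale
import Groth.Agent.NeronComp.NeronOpen

/-!
# Flatness of isogenies of Néron models with semistable reduction
-/

set_option autoImplicit false
set_option linter.style.haveILetI false
set_option backward.isDefEq.respectTransparency false
set_option backward.isDefEq.respectTransparency.types false
set_option maxHeartbeats 1000000
set_option synthInstance.maxHeartbeats 400000

universe u

open CategoryTheory CategoryTheory.Limits MonoidalCategory CartesianMonoidalCategory MonObj GrpObj AlgebraicGeometry TopologicalSpace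

attribute [local instance] CategoryTheory.Hom.monoid CategoryTheory.Hom.group

noncomputable section

namespace Groth.Agent.NeronIsog

open Groth.Agent

/-- Properties stable under base change pass along a composite of base points. -/
theorem bc_comp_prop (P : MorphismProperty Scheme.{u}) [P.IsStableUnderBaseChange] [P.RespectsIso]
    {S S₁ S₂ : Scheme.{u}} (g : S₂ ⟶ S₁) (j : S₁ ⟶ S) {A B : Over S} (φ : A ⟶ B)
    (h : P ((Over.pullback j).map φ).left) : P ((Over.pullback (g ≫ j)).map φ).left := by
  let e := Over.pullbackComp g j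
  exact (P.arrow_mk_iso_iff ((Over.forget _).mapArrow.mapIso
    (Arrow.isoMk (f := Arrow.mk ((Over.pullback (g ≫ j)).map φ))
      (g := Arrow.mk ((Over.pullback g).map ((Over.pullback j).map φ))) (e.app A) (e.app B)
      (e.hom.naturality φ).symm))).2
    (MorphismProperty.overPullbackMap (P := P) g _ h)

variable (R : Type u) [CommRing R] [IsDomain R] [IsDiscreteValuationRing R]

theorem exists_fromSpecResidueField_fac :
    ∃ g : Spec ((Spec (CommRingCat.of R)).residueField
        (Neron.genPt R (IsLocalRing.closedPoint (FractionRing R)))) ⟶ Spec (CommRingCat.of (FractionRing R)),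
      g ≫ Neron.genPt R = (Spec (CommRingCat.of R)).fromSpecResidueField _ := by
  let S := Spec (CommRingCat.of R)
  let t : S := Neron.genPt R (IsLocalRing.closedPoint (FractionRing R))
  have htbot : t.asIdeal = ⊥ := by
    show Ideal.comap (algebraMap R (FractionRing R)) (IsLocalRing.maximalIdeal _) = ⊥
    rw [IsLocalRing.maximalIdeal_eq_bot, ← RingHom.ker_eq_comap_bot,
      (RingHom.injective_iff_ker_eq_bot _).1 (IsFractionRing.injective R (FractionRing R))]
  obtain ⟨φ, hφ⟩ := Spec.map_surjective (S.fromSpecResidueField t)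
  have hinj : Function.Injective φ.hom := by
    rw [RingHom.injective_iff_ker_eq_bot]
    have h := congrArg (fun f : Spec (S.residueField t) ⟶ S => f (IsLocalRing.closedPoint _)) hφ
    simp only [Scheme.fromSpecResidueField_apply] at h
    have h2 := congrArg PrimeSpectrum.asIdeal h
    rw [htbot] at h2
    rw [← h2, RingHom.ker_eq_comap_bot]
    show Ideal.comap φ.hom ⊥ = Ideal.comap φ.hom (IsLocalRing.maximalIdeal _)
    rw [IsLocalRing.maximalIdeal_eq_bot]
  obtain ⟨ψ₀, hψ₀⟩ := NeronComp.NeronOpen.exists_factor R (FractionRing R) φ.hom hinj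
  refine ⟨Spec.map (CommRingCat.ofHom ψ₀), ?_⟩
  rw [← hφ, ← Spec.map_comp]
  exact congrArg Spec.map (CommRingCat.hom_ext hψ₀)

theorem flat_of_semistable (A B : Over (Spec (CommRingCat.of R))) [GrpObj A] [GrpObj B]
    (hA : Neron.IsNeronModelOf R A ((Neron.genericFibre R).obj A) (Iso.refl _))
    (hB : Neron.IsNeronModelOf R B ((Neron.genericFibre R).obj B) (Iso.refl _))
    [IsProper ((Neron.genericFibre R).obj A).hom] [GeometricallyIntegral ((Neron.genericFibre R).obj A).hom]
    (φ : A ⟶ B) [IsMonHom φ] (hφ : SGA7.IsIsogenyOver ((Neron.genericFibre R).map φ))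
    (hss : SGA7.HasSemistableReduction R (FractionRing R) ((Neron.genericFibre R).obj A)) :
    Flat φ.left := by
  haveI := hA.1; haveI := hA.2.1; haveI := hA.2.2.2.1; haveI := hB.1
  let F := Neron.genericFibre R
  haveI : IsCommMonObj (F.obj A) := isCommMonObj_of_isProper_of_geometricallyIntegral _
  haveI : IsCommMonObj A := NeronComp.isCommMonObj_of_genericFibre (R := R) (K := FractionRing R) A
  obtain ⟨G, iG, e, he, hGs, hGsep, hGq, hG⟩ := hss
  letI := iG
  haveI := he; haveI := hGs; haveI := hGsep; haveI := hGq
  obtain ⟨a, ha⟩ := (hA.2.2.2.2 G hGs).2 e.hom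
  have ha' : F.map a = e.hom := by simpa using ha
  have hAN : SGA7.IsNeron R (FractionRing R) A := ⟨hA.1, hA.2.1, hA.2.2.2.1, fun Y hY => by
    have h := hA.2.2.2.2 Y hY
    simpa using h⟩
  haveI : IsMonHom ((SGA7.genFib R (FractionRing R)).map a) := by
    show IsMonHom (F.map a)
    rw [ha']; exact he
  haveI : IsMonHom a := NeronComp.NeronOpen.isMonHom_to_neron R (FractionRing R) hAN a
  haveI : IsIso ((SGA7.genFib R (FractionRing R)).map a) := by
    show IsIso (F.map a)
    rw [ha']; infer_instance
  haveI : IsCommMonObj G := NeronComp.NeronOpen.isCommMonObj_source R (FractionRing R) G A a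
  haveI := NeronComp.NeronOpen.isOpenImmersion_of_genFib R (FractionRing R) G A hG a
  have hAu := NeronComp.NeronOpen.fibresUnipotentRankZero_of_open a hG
  let S := Spec (CommRingCat.of R)
  let t : S := Neron.genPt R (IsLocalRing.closedPoint (FractionRing R))
  obtain ⟨g, hg⟩ := exists_fromSpecResidueField_fac R
  haveI hfin : IsFinite (SGA7.fibreHom t φ).left := by
    haveI : QuasiCompact (F.obj A).hom := inferInstanceAs (QuasiCompact (pullback.snd A.hom _))
    haveI : Smooth (F.obj A).hom := inferInstanceAs (Smooth (pullback.snd A.hom _))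
    haveI : Smooth (F.obj B).hom := inferInstanceAs (Smooth (pullback.snd B.hom _))
    show IsFinite ((Over.pullback (S.fromSpecResidueField t)).map φ).left
    rw [← hg]
    exact bc_comp_prop @IsFinite g _ φ (NeronComp.IsogFib.lqf_of_finite_kernel (F.map φ) hφ.2)
  have hiso : SGA7.IsIsogenyOver (SGA7.fibreHom t φ) := by
    refine ⟨?_, fun P i hk => ?_⟩
    · show Surjective ((Over.pullback (S.fromSpecResidueField t)).map φ).left
      rw [← hg]
      exact bc_comp_prop @Surjective g _ φ hφ.1
    · have sq : IsPullback i.left P.hom (SGA7.fibreHom t φ).left η[Red.bc (S.fromSpecResidueField t) B].left :=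
        hk.map (Over.forget _)
      exact MorphismProperty.of_isPullback (P := @IsFinite) sq inferInstance
  haveI : LocallyOfFiniteType (φ.left ≫ B.hom) := by rw [Over.w φ]; infer_instance
  haveI : LocallyOfFiniteType φ.left := locallyOfFiniteType_of_comp φ.left B.hom
  have htbot : ∀ x : S, t ⤳ x := fun x => by
    refine (PrimeSpectrum.le_iff_specializes t x).1 (le_of_eq_of_le ?_ bot_le)
    refine PrimeSpectrum.ext ?_
    show Ideal.comap (algebraMap R (FractionRing R)) (IsLocalRing.maximalIdeal _) = ⊥
    rw [IsLocalRing.maximalIdeal_eq_bot, ← RingHom.ker_eq_comap_bot,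
      (RingHom.injective_iff_ker_eq_bot _).1 (IsFractionRing.injective R (FractionRing R))]
  refine (lqf_iff_flat φ hφ).1 ((NeronComp.PowFlat.lqf_iff_fibres φ).mpr fun s => ?_)
  haveI : IsFinite (SGA7.fibreHom s φ).left :=
    NeronComp.IsogSpec.isFinite_fib φ (htbot s) (hAu s) hiso
  exact (inferInstance : LocallyQuasiFinite (SGA7.fibreHom s φ).left)

end Groth.Agent.NeronIsog
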