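import Groth.Agent.NeronIsog.GaSect

/-! # Unirationality of extensions by the additive group -/

set_option autoImplicit false
set_option linter.style.haveILetI false
set_option backward.isDefEq.respectTransparency false
set_option backward.isDefEq.respectTransparency.types false
set_option synthInstance.maxHeartbeats 400000

universe u

open CategoryTheory MonoidalCategory CartesianMonoidalCategory AlgebraicGeometry
open scoped MonObj

attribute [local instance] CategoryTheory.Hom.monoid CategoryTheory.Hom.group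

namespace Groth.Agent.NeronIsog.Unirat

set_option maxHeartbeats 1000000 in
theorem unirational
    (κ : Type u) [Field κ]
    (G G'' : Over (Spec (CommRingCat.of κ))) [GrpObj G] [IsCommMonObj G] [GrpObj G''] [IsCommMonObj G'']
    [Smooth G.hom] [LocallyOfFiniteType G.hom] [QuasiCompact G.hom] [ConnectedSpace G.left]
    [Smooth G''.hom] [LocallyOfFiniteType G''.hom] [QuasiCompact G''.hom] [ConnectedSpace G''.left]
    (q : G ⟶ G'') [IsMonHom q] [Flat q.left] (hq : Function.Surjective q.left.base)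
    (i : Red.Ga (Spec (CommRingCat.of κ)) ⟶ G) [IsMonHom i] (hker : AlgGrp.IsKernel i q)
    (huni : ∃ (n : ℕ) (V : (AffineSpace (ULift.{u} (Fin n)) (Spec (CommRingCat.of κ))).Opens)
        (ψ : (V : Scheme.{u}) ⟶ G''.left),
      (V : Set (AffineSpace (ULift.{u} (Fin n)) (Spec (CommRingCat.of κ)))).Nonempty ∧ DenseRange ψ.base ∧
      ψ ≫ G''.hom = V.ι ≫ (AffineSpace (ULift.{u} (Fin n)) (Spec (CommRingCat.of κ)) ↘ Spec (CommRingCat.of κ))) :
    ∃ (n : ℕ) (V : (AffineSpace (ULift.{u} (Fin n)) (Spec (CommRingCat.of κ))).Opens)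
        (ψ : (V : Scheme.{u}) ⟶ G.left),
      (V : Set (AffineSpace (ULift.{u} (Fin n)) (Spec (CommRingCat.of κ)))).Nonempty ∧ DenseRange ψ.base ∧
      ψ ≫ G.hom = V.ι ≫ (AffineSpace (ULift.{u} (Fin n)) (Spec (CommRingCat.of κ)) ↘ Spec (CommRingCat.of κ)) := by
  haveI : IsAffineHom q.left := NeronIsog.GaSect.isAffineHom_of_ga_kernel q i hker
  haveI : Surjective q.left := ⟨hq⟩
  haveI : IsLocallyNoetherian G''.left := LocallyOfFiniteType.isLocallyNoetherian G''.hom
  haveI : LocallyOfFiniteType q.left := by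
    haveI : LocallyOfFiniteType (q.left ≫ G''.hom) := by rw [Over.w]; infer_instance
    exact locallyOfFiniteType_of_comp q.left G''.hom
  haveI : LocallyOfFinitePresentation q.left := inferInstance
  have hqo : IsOpenMap q.left.base := q.left.isOpenMap
  obtain ⟨n, V, ψ, hVne, hψd, hψw⟩ := huni
  -- an affine piece of `G''` with a section
  obtain ⟨_, ⟨U', hU, rfl⟩, hU0, -⟩ := G''.left.isBasis_affineOpens.exists_subset_of_mem_open
    (Set.mem_univ (ψ ⟨_, hVne.some_mem⟩)) isOpen_univ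
  let U : G''.left.Opens := U'
  let A : Over (Spec (CommRingCat.of κ)) := Over.mk (U.ι ≫ G''.hom)
  haveI : IsAffine A.left := hU
  obtain ⟨s, hs⟩ := NeronIsog.GaSect.exists_lift q i hker (Over.homMk U.ι rfl : A ⟶ G'')
  -- the open piece of the affine space
  haveI : IsIntegral (AffineSpace (ULift.{u} (Fin n)) (Spec (CommRingCat.of κ))) := inferInstance
  let V' := V.ι ''ᵁ (ψ ⁻¹ᵁ U)
  have hV' : V' ≤ V := by
    rintro _ ⟨v, -, rfl⟩
    exact v.2
  let ψ₁ : (V' : Scheme.{u}) ⟶ G''.left := (AffineSpace (ULift.{u} (Fin n)) (Spec (CommRingCat.of κ))).homOfLE hV' ≫ ψ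
  have hψ₁U : Set.range ψ₁ ⊆ Set.range U.ι := by
    rintro _ ⟨v, rfl⟩
    rw [Scheme.Opens.range_ι]
    obtain ⟨w, hw, hwv⟩ := v.2
    have : ((AffineSpace (ULift.{u} (Fin n)) (Spec (CommRingCat.of κ))).homOfLE hV') v = w := by
      apply V.ι.isOpenEmbedding.injective
      rw [← Scheme.Hom.comp_apply, Scheme.homOfLE_ι]
      exact hwv.symm
    show ψ (_) ∈ U
    exact (congrArg (fun x => ψ x ∈ U) this).symm.mp hw
  let Vo : Over (Spec (CommRingCat.of κ)) :=
    Over.mk (V'.ι ≫ (AffineSpace (ULift.{u} (Fin n)) (Spec (CommRingCat.of κ)) ↘ Spec (CommRingCat.of κ)))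
  have hψ₁w : ψ₁ ≫ G''.hom = Vo.hom := by
    show (_ ≫ ψ) ≫ G''.hom = _
    rw [Category.assoc, hψw, Scheme.homOfLE_ι_assoc]
    rfl
  let ψ₂ : Vo ⟶ A := Over.homMk (IsOpenImmersion.lift U.ι ψ₁ hψ₁U) (by
    show _ ≫ U.ι ≫ G''.hom = _
    rw [IsOpenImmersion.lift_fac_assoc, hψ₁w])
  have hD : DenseRange ψ₁.base := by
    refine hψd.comp ?_ ψ.continuous
    haveI : IsIntegral (V : Scheme.{u}) := by
      haveI : Nonempty (V : Scheme.{u}) := hVne.to_subtype
      exact isIntegral_of_isOpenImmersion V.ι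
    refine IsOpen.dense (Scheme.Hom.isOpenEmbedding _).isOpen_range ?_
    exact ⟨_, Set.mem_range_self (⟨_, ⟨_, hU0, rfl⟩⟩ : V')⟩
  -- one more coordinate
  let e : ULift.{u} (Fin n) → ULift.{u} (Fin (n + 1)) := fun a => ⟨a.down.castSucc⟩
  let pr : AffineSpace (ULift.{u} (Fin (n + 1))) (Spec (CommRingCat.of κ)) ⟶
      AffineSpace (ULift.{u} (Fin n)) (Spec (CommRingCat.of κ)) := AffineSpace.reindex e _
  let W := pr ⁻¹ᵁ V'
  let Wo : Over (Spec (CommRingCat.of κ)) :=
    Over.mk (W.ι ≫ (AffineSpace (ULift.{u} (Fin (n + 1))) (Spec (CommRingCat.of κ)) ↘ Spec (CommRingCat.of κ)))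
  let p : Wo ⟶ Vo := Over.homMk (pr ∣_ V') (by
    show _ ≫ V'.ι ≫ _ = W.ι ≫ _
    rw [morphismRestrict_ι_assoc]
    exact congrArg (W.ι ≫ ·) (AffineSpace.reindex_over e _))
  let t : Wo ⟶ Red.Ga (Spec (CommRingCat.of κ)) := GrpSchLib.GaPts.ptOfFn
    (W.ι.appTop (AffineSpace.coord (Spec (CommRingCat.of κ)) (⟨Fin.last n⟩ : ULift.{u} (Fin (n + 1)))))
  -- points of the bigger piece
  have hpt : ∀ (T : Over (Spec (CommRingCat.of κ))) (w : T ⟶ Vo) (b : T ⟶ Red.Ga (Spec (CommRingCat.of κ))),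
      ∃ z : T ⟶ Wo, z ≫ p = w ∧ z ≫ t = b := by
    intro T w b
    let v : ULift.{u} (Fin (n + 1)) → Γ(T.left, ⊤) := fun a =>
      Fin.snoc (α := fun _ => Γ(T.left, ⊤))
        (fun m => (w.left ≫ V'.ι).appTop (AffineSpace.coord (Spec (CommRingCat.of κ)) (⟨m⟩ : ULift.{u} (Fin n))))
        (Red.gaFn b) a.down
    let z₀ := AffineSpace.homOfVector T.hom v
    have hz₀ : z₀ ≫ pr = w.left ≫ V'.ι := by
      refine AffineSpace.hom_ext ?_ fun a => ?_
      · rw [Category.assoc, AffineSpace.reindex_over, AffineSpace.homOfVector_over, Category.assoc]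
        exact (Over.w w).symm
      · rw [Scheme.Hom.comp_appTop]
        show z₀.appTop (pr.appTop _) = _
        rw [AffineSpace.reindex_appTop_coord, AffineSpace.homOfVector_appTop_coord]
        exact Fin.snoc_castSucc (α := fun _ => Γ(T.left, ⊤)) _ _ _
    have hzW : Set.range z₀ ⊆ Set.range W.ι := by
      rintro _ ⟨x, rfl⟩
      rw [Scheme.Opens.range_ι]
      show pr (z₀ x) ∈ V'
      rw [← Scheme.Hom.comp_apply, hz₀]
      exact (w.left x).2
    refine ⟨Over.homMk (IsOpenImmersion.lift W.ι z₀ hzW) ?_, ?_, ?_⟩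
    · show _ ≫ W.ι ≫ _ = _
      rw [IsOpenImmersion.lift_fac_assoc, AffineSpace.homOfVector_over]
    · refine Over.OverMorphism.ext ((cancel_mono V'.ι).1 ?_)
      show (IsOpenImmersion.lift W.ι z₀ hzW ≫ (pr ∣_ V')) ≫ V'.ι = w.left ≫ V'.ι
      rw [Category.assoc, morphismRestrict_ι, IsOpenImmersion.lift_fac_assoc, hz₀]
    · refine GrpSchLib.GaPts.gaFn_injective ?_
      show Red.gaFn _ = Red.gaFn _
      rw [GrpSchLib.GaPts.gaFn_comp, GrpSchLib.GaPts.gaFn_ptOfFn]
      show ((IsOpenImmersion.lift W.ι z₀ hzW).appTop) (W.ι.appTop _) = _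
      rw [← CommRingCat.comp_apply, ← Scheme.Hom.comp_appTop, IsOpenImmersion.lift_fac,
        AffineSpace.homOfVector_appTop_coord]
      exact Fin.snoc_last (α := fun _ => Γ(T.left, ⊤)) _ _
  let Ψ : Wo ⟶ G := (t ≫ i) * (p ≫ ψ₂ ≫ s)
  have hsub : q.left.base ⁻¹' Set.range ψ₁.base ⊆ Set.range Ψ.left.base := by
    rintro g ⟨v, hv⟩
    obtain ⟨y, hy1, hy2⟩ := Scheme.Pullback.exists_preimage_pullback (f := q.left) (g := ψ₁) g v hv.symm
    let P := Limits.pullback q.left ψ₁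
    let T : Over (Spec (CommRingCat.of κ)) := Over.mk ((P.fromSpecResidueField y ≫ Limits.pullback.fst q.left ψ₁) ≫ G.hom)
    let x : T ⟶ G := Over.homMk (P.fromSpecResidueField y ≫ Limits.pullback.fst q.left ψ₁) rfl
    let w : T ⟶ Vo := Over.homMk (P.fromSpecResidueField y ≫ Limits.pullback.snd q.left ψ₁) (by
      show (_ ≫ _) ≫ Vo.hom = (_ ≫ _) ≫ G.hom
      refine (Category.assoc _ _ _).trans ((congrArg (P.fromSpecResidueField y ≫ ·) ?_).trans (Category.assoc _ _ _).symm)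
      exact ((congrArg (Limits.pullback.snd q.left ψ₁ ≫ ·) hψ₁w).symm).trans
        ((Limits.pullback.condition_assoc _).symm.trans (congrArg (Limits.pullback.fst q.left ψ₁ ≫ ·) (Over.w q))))
    have hxw : x ≫ q = (w ≫ ψ₂ ≫ s) ≫ q := by
      rw [Category.assoc, Category.assoc, hs]
      refine Over.OverMorphism.ext ?_
      show (P.fromSpecResidueField y ≫ Limits.pullback.fst q.left ψ₁) ≫ q.left =
        (P.fromSpecResidueField y ≫ Limits.pullback.snd q.left ψ₁) ≫ IsOpenImmersion.lift U.ι ψ₁ hψ₁U ≫ U.ι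
      rw [IsOpenImmersion.lift_fac, Category.assoc, Category.assoc, Limits.pullback.condition]
    obtain ⟨b, hb, -⟩ := hker.exists_lift (x * (w ≫ ψ₂ ≫ s)⁻¹) (toUnit T) (by
      rw [MonObj.mul_comp, GrpObj.inv_comp, hxw, mul_inv_cancel, Hom.one_def])
    obtain ⟨z, hzp, hzt⟩ := hpt T w b
    have hzΨ : z ≫ Ψ = x := by
      rw [MonObj.comp_mul, ← Category.assoc, hzt, hb, ← Category.assoc z p, hzp, inv_mul_cancel_right]
    refine ⟨z.left (IsLocalRing.closedPoint (P.residueField y)), ?_⟩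
    have := congrArg (fun f : T ⟶ G => f.left (IsLocalRing.closedPoint (P.residueField y))) hzΨ
    refine this.trans ?_
    show (Limits.pullback.fst q.left ψ₁) (P.fromSpecResidueField y _) = g
    rw [Scheme.fromSpecResidueField_apply]
    exact hy1
  have hΨd : DenseRange Ψ.left.base := Dense.mono hsub (hD.preimage hqo)
  refine ⟨n + 1, W, Ψ.left, ?_, hΨd, Over.w Ψ⟩
  obtain ⟨g', hg'⟩ := hq (ψ₁ (⟨_, ⟨_, hU0, rfl⟩⟩ : V'))
  obtain ⟨w, -⟩ := hsub (show g' ∈ q.left.base ⁻¹' Set.range ψ₁.base from ⟨_, hg'.symm⟩)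
  exact ⟨_, w.2⟩

end Groth.Agent.NeronIsog.Unirat
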