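import Groth.Agent.NeronIsog.PtsExt
import Groth.Agent.BcQCalc.Exist
import Groth.Agent.Hensel.HenselizationProps
import Groth.Agent.S0540
import Groth.Agent.SectDVR
import Groth.Agent.EGA41Lib.FieldFS
import Groth.Agent.QRepLib.Naive

/-!
# Extension from points with values in extensions of ramification index one
-/

set_option autoImplicit false
set_option linter.style.haveILetI false
set_option backward.isDefEq.respectTransparency false
set_option backward.isDefEq.respectTransparency.types false

universe u

open CategoryTheory Limits AlgebraicGeometry TopologicalSpace IsLocalRing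
open scoped TensorProduct

namespace Groth.Agent.NeronIsog.ValExt

variable {R : Type u} [CommRing R] [IsLocalRing R]

/-- The local ring of a smooth algebra at the generic point of a component of the closed fibre. -/
theorem residue_props (A O : Type u) [CommRing A] [Algebra R A] [Algebra.Smooth R A] (P : Ideal A) [P.IsPrime]
    [CommRing O] [IsDomain O] [IsDiscreteValuationRing O] [Algebra A O] [IsLocalization.AtPrime O P]
    [Algebra R O] [IsScalarTower R A O] [IsLocalHom (algebraMap R O)]
    (hne : (maximalIdeal R).map (algebraMap R O) ≠ ⊥) :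
    (maximalIdeal R).map (algebraMap R O) = maximalIdeal O ∧
      Algebra.FormallySmooth (ResidueField R) (ResidueField O) := by
  haveI : Algebra.FormallyEtale A O := Algebra.FormallyEtale.of_isLocalization P.primeCompl
  haveI : Algebra.FormallySmooth R O := Algebra.FormallySmooth.comp R A O
  let m := maximalIdeal R
  have hAr : (m.map (algebraMap R A)).IsRadical := by
    haveI : _root_.IsReduced ((R ⧸ m) ⊗[R] A) :=
      haveI : _root_.IsReduced (R ⧸ m) := inferInstanceAs (_root_.IsReduced (ResidueField R))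
      QRepLib.isReduced_of_smooth_algebra (R ⧸ m) _
    let e : (A ⧸ m.map (algebraMap R A)) ≃+* (R ⧸ m) ⊗[R] A :=
      ((Algebra.TensorProduct.quotIdealMapEquivTensorQuot A m).toRingEquiv).trans
        (Algebra.TensorProduct.comm R A (R ⧸ m)).toRingEquiv
    exact (Ideal.isRadical_iff_quotient_reduced _).2 (isReduced_of_injective e.toRingHom e.injective)
  have hOr : (m.map (algebraMap R O)).IsRadical := by
    rw [IsScalarTower.algebraMap_eq R A O, ← Ideal.map_map]
    rintro z ⟨n, hn⟩
    obtain ⟨a, s, rfl⟩ := IsLocalization.exists_mk'_eq P.primeCompl z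
    rw [← IsLocalization.mk'_pow, IsLocalization.mk'_mem_iff, IsLocalization.algebraMap_mem_map_algebraMap_iff P.primeCompl] at hn
    rw [IsLocalization.mk'_mem_iff, IsLocalization.algebraMap_mem_map_algebraMap_iff P.primeCompl]
    obtain ⟨t, ht, hta⟩ := hn
    refine ⟨t, ht, hAr ⟨n + 1, ?_⟩⟩
    rw [show (t * a) ^ (n + 1) = t ^ n * a * (t * a ^ n) from by ring]
    exact Ideal.mul_mem_left _ _ hta
  have hle : m.map (algebraMap R O) ≤ maximalIdeal O :=
    ((local_hom_TFAE (algebraMap R O)).out 0 2 rfl rfl).mp inferInstance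
  have hmax : m.map (algebraMap R O) = maximalIdeal O := by
    refine le_antisymm hle fun z hz => ?_
    obtain ⟨π, hπ⟩ := IsDiscreteValuationRing.exists_irreducible O
    obtain ⟨n, hn⟩ := IsDiscreteValuationRing.ideal_eq_span_pow_irreducible hne hπ
    refine hOr ⟨n, ?_⟩
    rw [hπ.maximalIdeal_eq, Ideal.mem_span_singleton] at hz
    rw [hn, Ideal.mem_span_singleton]
    exact pow_dvd_pow_of_dvd hz n
  refine ⟨hmax, ?_⟩
  let φ : ResidueField R ⊗[R] O →ₐ[ResidueField R] ResidueField O :=
    Algebra.TensorProduct.lift (Algebra.ofId (ResidueField R) (ResidueField O))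
      (IsScalarTower.toAlgHom R O (ResidueField O)) (fun _ _ => Commute.all _ _)
  have h1 : ∀ z : ResidueField R ⊗[R] O, ∃ o : O, z = (1 : ResidueField R) ⊗ₜ[R] o := by
    intro z
    induction z using TensorProduct.induction_on with
    | zero => exact ⟨0, (TensorProduct.tmul_zero O _).symm⟩
    | tmul c o =>
      obtain ⟨r, rfl⟩ := residue_surjective c
      refine ⟨r • o, ?_⟩
      rw [← TensorProduct.smul_tmul, Algebra.smul_def, mul_one]
      rfl
    | add z w hz hw =>
      obtain ⟨a, rfl⟩ := hz
      obtain ⟨b, rfl⟩ := hw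
      exact ⟨a + b, (TensorProduct.tmul_add _ _ _).symm⟩
  have hφ : ∀ o : O, φ ((1 : ResidueField R) ⊗ₜ[R] o) = residue O o := fun o => by
    rw [Algebra.TensorProduct.lift_tmul, map_one, one_mul]
    rfl
  have hbij : Function.Bijective φ := by
    refine ⟨(injective_iff_map_eq_zero φ).2 fun z hz => ?_, fun c => ?_⟩
    · obtain ⟨o, rfl⟩ := h1 z
      rw [hφ, residue_eq_zero_iff, ← hmax] at hz
      induction hz using Submodule.span_induction with
      | mem x hx =>
        obtain ⟨r, hr, rfl⟩ := hx
        rw [Algebra.algebraMap_eq_smul_one, ← TensorProduct.smul_tmul, Algebra.smul_def, mul_one,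
          show algebraMap R (ResidueField R) r = 0 from (residue_eq_zero_iff r).2 hr, TensorProduct.zero_tmul]
      | zero => exact TensorProduct.tmul_zero O _
      | add x y _ _ hx hy => rw [TensorProduct.tmul_add, hx, hy, add_zero]
      | smul c x _ hx =>
        rw [smul_eq_mul, show (1 : ResidueField R) ⊗ₜ[R] (c * x) = ((1 : ResidueField R) ⊗ₜ[R] c) * (1 ⊗ₜ[R] x) by
          rw [Algebra.TensorProduct.tmul_mul_tmul, mul_one], hx, mul_zero]
    · obtain ⟨o, rfl⟩ := residue_surjective c
      exact ⟨_, hφ o⟩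
  exact Algebra.FormallySmooth.of_equiv (AlgEquiv.ofBijective φ hbij)

variable [IsDomain R] [IsDiscreteValuationRing R]

/-- The extension property for points over the field of fractions of `O`. -/
theorem exists_point (G : Over (Spec (CommRingCat.of R)))
    (h : ∀ (R' : Type u) [CommRing R'] [IsDomain R'] [IsDiscreteValuationRing R'] [Algebra R R']
        [IsLocalHom (algebraMap R R')] [HenselianLocalRing R'] [IsSepClosed (IsLocalRing.ResidueField R')],
      (IsLocalRing.maximalIdeal R).map (algebraMap R R') = IsLocalRing.maximalIdeal R' →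
      Algebra.IsGeometricallyReduced (IsLocalRing.ResidueField R) (IsLocalRing.ResidueField R') →
      ∀ x : Spec (CommRingCat.of (FractionRing R')) ⟶ G.left,
        x ≫ G.hom = Spec.map (CommRingCat.ofHom ((algebraMap R' (FractionRing R')).comp (algebraMap R R'))) →
        ∃ y : Spec (CommRingCat.of R') ⟶ G.left, y ≫ G.hom = Spec.map (CommRingCat.ofHom (algebraMap R R')) ∧
          Spec.map (CommRingCat.ofHom (algebraMap R' (FractionRing R'))) ≫ y = x)
    (O : Type u) [CommRing O] [IsDomain O] [IsDiscreteValuationRing O] [Algebra R O] [IsLocalHom (algebraMap R O)]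
    (hm : (maximalIdeal R).map (algebraMap R O) = maximalIdeal O)
    (hfs : Algebra.FormallySmooth (ResidueField R) (ResidueField O))
    (K : Type u) [Field K] [Algebra O K] [IsFractionRing O K]
    (x : Spec (CommRingCat.of K) ⟶ G.left)
    (hx : x ≫ G.hom = Spec.map (CommRingCat.ofHom ((algebraMap O K).comp (algebraMap R O)))) :
    ∃ y : Spec (CommRingCat.of O) ⟶ G.left, y ≫ G.hom = Spec.map (CommRingCat.ofHom (algebraMap R O)) ∧
      Spec.map (CommRingCat.ofHom (algebraMap O K)) ≫ y = x := by
  obtain ⟨R', _, _, _, _, hR'⟩ := BcQCalc.exists_strictHens O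
  haveI := hR'
  haveI : HenselianLocalRing R' := _root_.Hensel.IsStrictHenselization.henselian (R := O)
  haveI : IsSepClosed (ResidueField R') := BcQCalc.isSepClosed_residueField_of_strict O R'
  haveI : IsNoetherianRing R' := (S0540.result O R').1 inferInstance
  haveI : Module.FaithfullyFlat O R' := Hensel.faithfullyFlat_of_isStrictHenselization O R'
  have hmR' := Hensel.map_maximalIdeal_of_isStrictHenselization O R'
  have hinj : Function.Injective (algebraMap O R') := FaithfulSMul.algebraMap_injective O R'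
  obtain ⟨π, hπ⟩ := IsDiscreteValuationRing.exists_irreducible O
  obtain ⟨_, _⟩ := SectDVR.isDVR_of_maximalIdeal R' (algebraMap O R' π)
    (mem_nonZeroDivisors_iff_right.2 fun z hz => by
      have hreg : IsSMulRegular R' π := Module.Flat.isSMulRegular_of_nonZeroDivisors (mem_nonZeroDivisors_of_ne_zero hπ.ne_zero)
      exact hreg (by simpa [Algebra.smul_def, mul_comm] using hz))
    (by rw [← hmR', hπ.maximalIdeal_eq, Ideal.map_span, Set.image_singleton])
  letI : Algebra R R' := ((algebraMap O R').comp (algebraMap R O)).toAlgebra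
  haveI : IsScalarTower R O R' := IsScalarTower.of_algebraMap_eq fun _ => rfl
  haveI : IsLocalHom (algebraMap R R') := RingHom.isLocalHom_comp _ _
  have hgr : Algebra.IsGeometricallyReduced (ResidueField R) (ResidueField R') := by
    haveI := _root_.Hensel.IsStrictHenselization.isSepClosure (R := O) (S := R')
    haveI : Algebra.IsSeparable (ResidueField O) (ResidueField R') := IsSepClosure.separable
    haveI := hfs
    haveI : IsScalarTower (ResidueField R) (ResidueField O) (ResidueField R') :=
      IsScalarTower.of_algebraMap_eq fun c => by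
        obtain ⟨r, rfl⟩ := residue_surjective c
        rfl
    haveI : Algebra.FormallyEtale (ResidueField O) (ResidueField R') := Algebra.FormallyEtale.of_isSeparable _ _
    haveI : Algebra.FormallySmooth (ResidueField R) (ResidueField R') :=
      Algebra.FormallySmooth.comp (ResidueField R) (ResidueField O) (ResidueField R')
    exact EGA41Lib.FieldFS.isGeometricallyReduced_of_formallySmooth _ _
  let K' := FractionRing R'
  let a : O →+* K' := (algebraMap R' K').comp (algebraMap O R')
  have ha : Function.Injective a := (IsFractionRing.injective R' K').comp hinj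
  let i : K →+* K' := IsFractionRing.lift ha
  have hi : ∀ o : O, i (algebraMap O K o) = algebraMap R' K' (algebraMap O R' o) := fun o =>
    IsFractionRing.lift_algebraMap ha o
  obtain ⟨y', -, hy'⟩ := h R' (by
      rw [show algebraMap R R' = (algebraMap O R').comp (algebraMap R O) from rfl, ← Ideal.map_map, hm, hmR'])
    hgr (Spec.map (CommRingCat.ofHom i) ≫ x) (by
      rw [Category.assoc, hx, ← Spec.map_comp]
      congr 1
      ext r
      exact hi _)
  let γ : G.left := y' (closedPoint R')
  let ρ' : G.left.presheaf.stalk γ ⟶ CommRingCat.of R' := Scheme.stalkClosedPointTo y'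
  have hsp : x (closedPoint K) ⤳ γ := by
    have e : x (closedPoint K) = y' (Spec.map (CommRingCat.ofHom (algebraMap R' K')) (closedPoint K')) := by
      rw [← Scheme.Hom.comp_apply]; erw [hy']; rw [Scheme.Hom.comp_apply]
      exact congrArg x (Subsingleton.elim _ _)
    rw [e]
    exact (IsLocalRing.specializes_closedPoint _).map y'.continuous
  let ρ : G.left.presheaf.stalk γ ⟶ CommRingCat.of K :=
    G.left.presheaf.stalkSpecializes hsp ≫ Scheme.stalkClosedPointTo x
  have hρ : Spec.map ρ ≫ G.left.fromSpecStalk γ = x := by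
    rw [Spec.map_comp, Category.assoc, Scheme.SpecMap_stalkSpecializes_fromSpecStalk,
      Scheme.Spec_stalkClosedPointTo_fromSpecStalk]
  have hρρ : ρ ≫ CommRingCat.ofHom i = ρ' ≫ CommRingCat.ofHom (algebraMap R' K') := by
    apply Spec.map_injective
    rw [← cancel_mono (G.left.fromSpecStalk γ), Spec.map_comp ρ, Spec.map_comp ρ', Category.assoc, Category.assoc, hρ,
      Scheme.Spec_stalkClosedPointTo_fromSpecStalk, hy']
  have hint : ∀ b, ∃ o : O, algebraMap O K o = ρ b := by
    intro b
    obtain ⟨a', c, hc, hab⟩ := IsFractionRing.div_surjective (A := O) (ρ b)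
    have hc0 : algebraMap O K c ≠ 0 := IsFractionRing.to_map_ne_zero_of_mem_nonZeroDivisors hc
    have e1 : ρ b * algebraMap O K c = algebraMap O K a' := by rw [← hab, div_mul_cancel₀ _ hc0]
    have e2 := congrArg i e1
    rw [map_mul, hi, hi, show i (ρ b) = algebraMap R' K' (ρ' b) from congr(($hρρ).hom b), ← map_mul] at e2
    have e3 : algebraMap O R' a' ∈ (Ideal.span {c}).map (algebraMap O R') := by
      rw [← IsFractionRing.injective R' K' e2]
      exact Ideal.mul_mem_left _ _ (Ideal.mem_map_of_mem _ (Ideal.mem_span_singleton_self c))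
    have e4 : a' ∈ Ideal.span {c} := by
      rw [← Ideal.comap_map_eq_self_of_faithfullyFlat (B := R') (Ideal.span {c})]
      exact e3
    obtain ⟨d, rfl⟩ := Ideal.mem_span_singleton'.1 e4
    exact ⟨d, by rw [← hab, map_mul, mul_div_cancel_right₀ _ hc0]⟩
  choose g hg using hint
  have hi' := IsFractionRing.injective O K
  let H : G.left.presheaf.stalk γ ⟶ CommRingCat.of O := CommRingCat.ofHom
    { toFun := g
      map_one' := hi' (by rw [hg, map_one, map_one])
      map_mul' := fun x y => hi' (by rw [hg, map_mul, map_mul, hg, hg])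
      map_zero' := hi' (by rw [hg, map_zero, map_zero])
      map_add' := fun x y => hi' (by rw [hg, map_add, map_add, hg, hg]) }
  have hH : H ≫ CommRingCat.ofHom (algebraMap O K) = ρ := by
    ext b; exact hg b
  let y := Spec.map H ≫ G.left.fromSpecStalk γ
  have hy : Spec.map (CommRingCat.ofHom (algebraMap O K)) ≫ y = x := by
    rw [← Category.assoc, ← Spec.map_comp, hH, hρ]
  refine ⟨y, ?_, hy⟩
  obtain ⟨ψ, hψ⟩ := Spec.map_surjective (y ≫ G.hom)
  rw [← hψ]
  congr 1
  have e : ψ ≫ CommRingCat.ofHom (algebraMap O K) =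
      CommRingCat.ofHom (algebraMap R O) ≫ CommRingCat.ofHom (algebraMap O K) := by
    apply Spec.map_injective
    rw [Spec.map_comp, hψ, ← Category.assoc, hy, hx]
    rfl
  ext r
  exact hi' congr(($e).hom r)

open H23 H23.RatPoint WeilExt MonoidalCategory CartesianMonoidalCategory
open scoped MonObj

/-- The lift at a point of codimension one of the closed fibre. -/
theorem exists_lift_of_val (Y : Over (Spec (CommRingCat.of R)))
    (h : ∀ (R' : Type u) [CommRing R'] [IsDomain R'] [IsDiscreteValuationRing R'] [Algebra R R']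
        [IsLocalHom (algebraMap R R')] [HenselianLocalRing R'] [IsSepClosed (IsLocalRing.ResidueField R')],
      (IsLocalRing.maximalIdeal R).map (algebraMap R R') = IsLocalRing.maximalIdeal R' →
      Algebra.IsGeometricallyReduced (IsLocalRing.ResidueField R) (IsLocalRing.ResidueField R') →
      ∀ x : Spec (CommRingCat.of (FractionRing R')) ⟶ Y.left,
        x ≫ Y.hom = Spec.map (CommRingCat.ofHom ((algebraMap R' (FractionRing R')).comp (algebraMap R R'))) →
        ∃ y : Spec (CommRingCat.of R') ⟶ Y.left, y ≫ Y.hom = Spec.map (CommRingCat.ofHom (algebraMap R R')) ∧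
          Spec.map (CommRingCat.ofHom (algebraMap R' (FractionRing R'))) ≫ y = x)
    {X : Scheme.{u}} [IsIntegral X] (f : X ⟶ Spec (CommRingCat.of R)) [Smooth f]
    (φ₀ : Spec (X.presheaf.stalk (genericPoint X)) ⟶ Y.left) (h₀ : φ₀ ≫ Y.hom = X.fromSpecStalk _ ≫ f)
    (x : X) (hx : IsDiscreteValuationRing (X.presheaf.stalk x)) (hfx : f x = IsLocalRing.closedPoint R) :
    ∃ χ : Spec (X.presheaf.stalk x) ⟶ Y.left, χ ≫ Y.hom = X.fromSpecStalk x ≫ f ∧
      Spec.map (X.presheaf.stalkSpecializes (genericPoint_specializes x)) ≫ χ = φ₀ := by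
  haveI := hx
  obtain ⟨V, hV, hxV, -⟩ := exists_isAffineOpen_mem_and_subset (x := x) (U := (⊤ : X.Opens)) trivial
  let A := Γ(X, V)
  let O := X.presheaf.stalk x
  obtain ⟨α, hα⟩ := Spec.map_surjective (hV.fromSpec ≫ f)
  letI : Algebra R A := α.hom.toAlgebra
  haveI : Algebra.Smooth R A := by
    have hs : Smooth (Spec.map α) := by rw [hα]; infer_instance
    exact (HasRingHomProperty.Spec_iff (P := @Smooth)).mp hs
  letI : Algebra A O := X.presheaf.algebra_section_stalk ⟨x, hxV⟩
  haveI : IsLocalization.AtPrime O (hV.primeIdealOf ⟨x, hxV⟩).asIdeal := hV.isLocalization_stalk ⟨x, hxV⟩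
  letI : Algebra R O := ((algebraMap A O).comp (algebraMap R A)).toAlgebra
  haveI : IsScalarTower R A O := IsScalarTower.of_algebraMap_eq fun _ => rfl
  have hO : Spec.map (CommRingCat.ofHom (algebraMap R O)) = X.fromSpecStalk x ≫ f := by
    rw [← hV.fromSpecStalk_eq_fromSpecStalk hxV, IsAffineOpen.fromSpecStalk, Category.assoc, ← hα, ← Spec.map_comp]
    rfl
  haveI : IsLocalHom (algebraMap R O) := by
    refine ((local_hom_TFAE (algebraMap R O)).out 0 4 rfl rfl).mpr ?_
    have hc : (Spec.map (CommRingCat.ofHom (algebraMap R O))) (closedPoint O) = closedPoint R := by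
      rw [hO, Scheme.Hom.comp_apply]
      exact (congrArg f Scheme.fromSpecStalk_closedPoint).trans hfx
    exact congrArg PrimeSpectrum.asIdeal hc
  haveI : Algebra.FormallyEtale A O :=
    Algebra.FormallyEtale.of_isLocalization (hV.primeIdealOf ⟨x, hxV⟩).asIdeal.primeCompl
  haveI : Module.Flat A O := IsLocalization.flat O (hV.primeIdealOf ⟨x, hxV⟩).asIdeal.primeCompl
  haveI : Module.Flat R O := Module.Flat.trans R A O
  have hne : (maximalIdeal R).map (algebraMap R O) ≠ ⊥ := by
    obtain ⟨π, hπ⟩ := IsDiscreteValuationRing.exists_irreducible R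
    intro hb
    have h0 : algebraMap R O π = 0 := by
      rw [← Ideal.mem_bot, ← hb, hπ.maximalIdeal_eq]
      exact Ideal.mem_map_of_mem _ (Ideal.mem_span_singleton_self π)
    have hreg : IsSMulRegular O π := Module.Flat.isSMulRegular_of_nonZeroDivisors (mem_nonZeroDivisors_of_ne_zero hπ.ne_zero)
    exact one_ne_zero (hreg (show π • (1 : O) = π • 0 by rw [smul_zero, Algebra.smul_def, h0, zero_mul]))
  obtain ⟨hm, hfs⟩ := residue_props A O (hV.primeIdealOf ⟨x, hxV⟩).asIdeal hne
  letI : Field (X.presheaf.stalk (genericPoint X)) := inferInstanceAs (Field X.functionField)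
  letI : Algebra O (X.presheaf.stalk (genericPoint X)) :=
    (X.presheaf.stalkSpecializes (genericPoint_specializes x)).hom.toAlgebra
  haveI : IsFractionRing O (X.presheaf.stalk (genericPoint X)) :=
    inferInstanceAs (IsFractionRing (X.presheaf.stalk x) X.functionField)
  obtain ⟨y, hy, hy₀⟩ := exists_point Y h O hm hfs (X.presheaf.stalk (genericPoint X)) φ₀ (by
    rw [h₀]
    show _ = Spec.map (CommRingCat.ofHom (algebraMap R O) ≫ X.presheaf.stalkSpecializes (genericPoint_specializes x))
    rw [Spec.map_comp, hO, Scheme.SpecMap_stalkSpecializes_fromSpecStalk_assoc])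
  exact ⟨y, hy.trans hO, hy₀⟩

/-- Maps extend in codimension one. -/
theorem exists_extension_codimOne
    (hS : ∀ s : Spec (CommRingCat.of R), IsRegularLocalRing ((Spec (CommRingCat.of R)).presheaf.stalk s))
    {X Y : Over (Spec (CommRingCat.of R))} [Smooth X.hom] [IsSeparated Y.hom] [LocallyOfFiniteType Y.hom]
    (h : ∀ (R' : Type u) [CommRing R'] [IsDomain R'] [IsDiscreteValuationRing R'] [Algebra R R']
        [IsLocalHom (algebraMap R R')] [HenselianLocalRing R'] [IsSepClosed (IsLocalRing.ResidueField R')],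
      (IsLocalRing.maximalIdeal R).map (algebraMap R R') = IsLocalRing.maximalIdeal R' →
      Algebra.IsGeometricallyReduced (IsLocalRing.ResidueField R) (IsLocalRing.ResidueField R') →
      ∀ x : Spec (CommRingCat.of (FractionRing R')) ⟶ Y.left,
        x ≫ Y.hom = Spec.map (CommRingCat.ofHom ((algebraMap R' (FractionRing R')).comp (algebraMap R R'))) →
        ∃ y : Spec (CommRingCat.of R') ⟶ Y.left, y ≫ Y.hom = Spec.map (CommRingCat.ofHom (algebraMap R R')) ∧
          Spec.map (CommRingCat.ofHom (algebraMap R' (FractionRing R'))) ≫ y = x)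
    (U : X.left.Opens) (hU : Dense (U : Set X.left))
    (hUη : ∀ z : X.left, X.hom z = (⊥ : PrimeSpectrum R) → z ∈ U)
    (f : U.toScheme ⟶ Y.left) (hf : f ≫ Y.hom = U.ι ≫ X.hom) :
    ∃ (V : X.left.Opens) (hUV : U ≤ V) (g : V.toScheme ⟶ Y.left),
      g ≫ Y.hom = V.ι ≫ X.hom ∧ X.left.homOfLE hUV ≫ g = f ∧
      ∀ x : X.left, Order.coheight x ≤ 1 → x ∈ V := by
  haveI := isReduced_smooth hS X.hom
  haveI : IsLocallyNoetherian X.left := LocallyOfFiniteType.isLocallyNoetherian X.hom
  have key : ∀ x : {x : X.left // Order.coheight x ≤ 1}, ∃ (V : X.left.Opens) (g : V.toScheme ⟶ Y.left),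
      x.1 ∈ V ∧ g ≫ Y.hom = V.ι ≫ X.hom ∧
      ∀ {P : Scheme.{u}} (a : P ⟶ V.toScheme) (b : P ⟶ U.toScheme),
        a ≫ V.ι = b ≫ U.ι → a ≫ g = b ≫ f := by
    rintro ⟨x, hx1⟩
    obtain ⟨X₀, hx, hI, -⟩ := exists_component hS X.hom x
    haveI := hI
    have hgen : genericPoint X₀.toScheme ∈ X₀.ι ⁻¹ᵁ U := by
      obtain ⟨_, hwU, w, rfl⟩ := hU.exists_mem_open X₀.ι.isOpenEmbedding.isOpen_range ⟨_, ⟨⟨x, hx⟩, rfl⟩⟩
      exact RatExtend.genericPoint_mem (X₀.ι ⁻¹ᵁ U) (x := w) hwU
    let X' : Over (Spec (CommRingCat.of R)) := Over.mk (X₀.ι ≫ X.hom)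
    haveI : IsIntegral X'.left := hI
    let jX : X' ⟶ X := Over.homMk X₀.ι
    haveI : IsOpenImmersion jX.left := inferInstanceAs (IsOpenImmersion X₀.ι)
    obtain ⟨V, g, hV, hg, hgf⟩ := exists_piece U f hf jX hgen {⟨x, hx⟩} fun φ hφ y hy => by
      obtain rfl : y = ⟨x, hx⟩ := hy
      haveI : Smooth X'.hom := inferInstanceAs (Smooth (X₀.ι ≫ X.hom))
      let x' : X₀.toScheme := ⟨x, hx⟩
      have hc : Order.coheight x' ≤ 1 := by rw [← coheight_ι]; exact hx1
      haveI : IsLocallyNoetherian X₀.toScheme := isLocallyNoetherian_of_isOpenImmersion X₀.ι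
      rcases hc.lt_or_eq with h0 | h0
      · rw [ENat.lt_one_iff_eq_zero, Order.coheight_eq_zero] at h0
        have h' : x' ⤳ genericPoint X₀.toScheme := h0 (genericPoint_specializes x')
        have he : (⟨x, hx⟩ : X₀.toScheme) = genericPoint X₀.toScheme :=
          (h'.antisymm (genericPoint_specializes x')).eq
        rw [he]
        exact defAt_gen φ
      · haveI : IsLocallyNoetherian X'.left := LocallyOfFiniteType.isLocallyNoetherian X'.hom
        have hN : Pi1.IsNormalScheme X'.left := isNormalScheme hS X'.hom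
        have := CDiv6.isDVR_of_coheight_one hN h0
        by_cases hxU : x' ∈ X₀.ι ⁻¹ᵁ U
        · exact hφ x' hxU
        obtain ⟨χ, hχ, hχ₀⟩ := exists_lift_of_val Y h X'.hom φ.left (Over.w φ) x' inferInstance
          ((PtsExt.eq_closedPoint_or_bot (X'.hom x')).resolve_right fun hb => hxU (hUη (X₀.ι x') hb))
        exact ⟨Over.homMk χ hχ, Over.OverMorphism.ext hχ₀⟩
    exact ⟨V, g, hV ⟨_, rfl, rfl⟩, hg, hgf⟩
  choose V g hxV hg hgf using key
  let V' : Option {x : X.left // Order.coheight x ≤ 1} → X.left.Opens := fun i => i.elim U V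
  obtain ⟨h, hh, hhg⟩ := glue_extensions (I := Option {x : X.left // Order.coheight x ≤ 1}) X.hom
    Y.hom f hU V' (fun | none => f | some i => g i) (fun | none => hf | some i => hg i)
    (fun | none => fun a b hab => congrArg (· ≫ f) ((cancel_mono U.ι).1 hab)
         | some i => hgf i)
  exact ⟨⨆ i, V' i, le_iSup V' none, h, hh, hhg none,
    fun x hx => Opens.mem_iSup.2 ⟨some ⟨x, hx⟩, hxV _⟩⟩

/-- Maps from the generic fibre of a smooth scheme into a group scheme extend when points do. -/
theorem existsUnique_extension_of_val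
    {X G : Over (Spec (CommRingCat.of R))} [Smooth X.hom] [GrpObj G] [IsSeparated G.hom]
    [LocallyOfFiniteType G.hom]
    (h : ∀ (R' : Type u) [CommRing R'] [IsDomain R'] [IsDiscreteValuationRing R'] [Algebra R R']
        [IsLocalHom (algebraMap R R')] [HenselianLocalRing R'] [IsSepClosed (IsLocalRing.ResidueField R')],
      (IsLocalRing.maximalIdeal R).map (algebraMap R R') = IsLocalRing.maximalIdeal R' →
      Algebra.IsGeometricallyReduced (IsLocalRing.ResidueField R) (IsLocalRing.ResidueField R') →
      ∀ x : Spec (CommRingCat.of (FractionRing R')) ⟶ G.left,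
        x ≫ G.hom = Spec.map (CommRingCat.ofHom ((algebraMap R' (FractionRing R')).comp (algebraMap R R'))) →
        ∃ y : Spec (CommRingCat.of R') ⟶ G.left, y ≫ G.hom = Spec.map (CommRingCat.ofHom (algebraMap R R')) ∧
          Spec.map (CommRingCat.ofHom (algebraMap R' (FractionRing R'))) ≫ y = x)
    (h0 : pullback X.hom (Spec.map (CommRingCat.ofHom (algebraMap R (FractionRing R)))) ⟶ G.left)
    (hh0 : h0 ≫ G.hom = pullback.fst _ _ ≫ X.hom) :
    ∃! g : X.left ⟶ G.left, g ≫ G.hom = X.hom ∧
      pullback.fst X.hom (Spec.map (CommRingCat.ofHom (algebraMap R (FractionRing R)))) ≫ g = h0 := by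
  let S := Spec (CommRingCat.of R)
  haveI : IsDomain (CommRingCat.of R) := inferInstanceAs (IsDomain R)
  haveI : IsNoetherian S := inferInstance
  let j := Spec.map (CommRingCat.ofHom (algebraMap R (FractionRing R)))
  let η₀ : S := genericPoint S
  obtain ⟨σ, hσ, he⟩ : ∃ σ : Spec (S.presheaf.stalk η₀) ⟶ Spec (CommRingCat.of (FractionRing R)),
      IsIso σ ∧ σ ≫ j = S.fromSpecStalk η₀ :=
    exists_iso_generic (CommRingCat.of R) (FractionRing R)
  let m : pullback X.hom (S.fromSpecStalk η₀) ⟶ pullback X.hom j :=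
    pullback.lift (pullback.fst _ _) (pullback.snd _ _ ≫ σ) (by
      rw [pullback.condition, Category.assoc, he])
  let m' : pullback X.hom j ⟶ pullback X.hom (S.fromSpecStalk η₀) :=
    pullback.lift (pullback.fst _ _) (pullback.snd _ _ ≫ inv σ) (by
      rw [pullback.condition, Category.assoc]
      congr 1
      rw [IsIso.eq_inv_comp]
      exact he)
  have hmm : m' ≫ m = 𝟙 _ := by
    apply pullback.hom_ext
    · rw [Category.assoc, pullback.lift_fst, pullback.lift_fst, Category.id_comp]
    · rw [Category.assoc, pullback.lift_snd, pullback.lift_snd_assoc, Category.assoc, Category.id_comp,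
        IsIso.inv_hom_id, Category.comp_id]
  haveI : Epi m := ⟨fun a b h => by
    rw [← Category.id_comp a, ← hmm, Category.assoc, h, ← Category.assoc, hmm, Category.id_comp]⟩
  obtain ⟨U, v, hUd, hrU, hv, hv0⟩ := exists_spread_generic X.hom G.hom (m ≫ h0) (by
    rw [Category.assoc, hh0, pullback.lift_fst_assoc])
  have hUη : ∀ z : X.left, X.hom z = (⊥ : PrimeSpectrum R) → z ∈ U := fun z hz => hrU (by
    rw [Scheme.Pullback.range_fst, Set.mem_preimage, hz]
    obtain ⟨w, hw⟩ : (⊥ : PrimeSpectrum R) ∈ Set.range j := (Set.ext_iff.1 PtsExt.range_genPt _).2 rfl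
    refine ⟨(inv σ) w, ?_⟩
    rw [← he, Scheme.Hom.comp_apply, ← Scheme.Hom.comp_apply (inv σ), IsIso.inv_hom_id]
    exact hw)
  obtain ⟨V, hUV, g₁, hg₁, hg₁U, hV⟩ :=
    exists_extension_codimOne (isRegularLocalRing_stalk_spec (R := R)) h U hUd hUη v hv
  obtain ⟨g, ⟨hg, hgV⟩, -⟩ := existsUnique_extension (isRegularLocalRing_stalk_spec (R := R)) V hV
    (exists_fibre_generization_of_coheight X.hom V hV) g₁ hg₁
  have hgU : U.ι ≫ g = v := by
    rw [← Scheme.homOfLE_ι X.left hUV, Category.assoc, hgV, hg₁U]
  have hfac : pullback.fst X.hom (S.fromSpecStalk η₀) ≫ g = m ≫ h0 := by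
    let π := pullback.fst X.hom (S.fromSpecStalk η₀)
    let b := IsOpenImmersion.lift U.ι π (by rw [Scheme.Opens.range_ι]; exact hrU)
    have hb : b ≫ U.ι = π := IsOpenImmersion.lift_fac _ _ _
    have h' := hv0 (𝟙 _) b ((Category.id_comp _).trans hb.symm)
    rw [Category.id_comp] at h'
    exact ((congrArg (· ≫ g) hb).symm.trans ((Category.assoc _ _ _).trans (congrArg (b ≫ ·) hgU))).trans h'.symm
  have huniq : ∀ a b : X.left ⟶ G.left, a ≫ G.hom = b ≫ G.hom →
      pullback.fst X.hom j ≫ a = pullback.fst X.hom j ≫ b → a = b := by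
    intro a b hab h
    refine S15942.ext_of_generic X.hom G.hom (𝟙 _) a b hab ?_
    have e1 : pullback.snd (pullback.fst X.hom (S.fromSpecStalk η₀)) (𝟙 X.left) =
        pullback.fst _ _ ≫ m ≫ pullback.fst X.hom j := by
      rw [pullback.lift_fst, pullback.condition, Category.comp_id]
    refine (congrArg (· ≫ a) e1).trans (Eq.trans ?_ (congrArg (· ≫ b) e1).symm)
    simp only [Category.assoc, h]
  have hg0 : pullback.fst X.hom j ≫ g = h0 := by
    rw [← cancel_epi m, ← Category.assoc, pullback.lift_fst, hfac]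
  exact ⟨g, ⟨hg, hg0⟩, fun g' ⟨hg', hg'0⟩ => huniq g' g (hg'.trans hg.symm) (hg'0.trans hg0.symm)⟩

end Groth.Agent.NeronIsog.ValExt
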